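import Groth.Agent.GrpHull.Dedekind
import Groth.Agent.DomHom.MonoAffine
import Mathlib.AlgebraicGeometry.IdealSheaf.Functorial

/-!
# Separated flat groups with affine generic fibre over a Dedekind domain
-/

universe u

open CategoryTheory Limits AlgebraicGeometry MonoidalCategory CartesianMonoidalCategory MonObj GrpObj

set_option autoImplicit false
set_option linter.all false
set_option backward.isDefEq.respectTransparency false
set_option backward.isDefEq.respectTransparency.types false

namespace Groth.Agent.GrpHull

/-- A separated flat group with affine generic fibre over a Dedekind domain is affine. -/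
theorem isAffine_of_affine_generic (R : Type u) [CommRing R] [IsDedekindDomain R] (K : Type u) [Field K] [Algebra R K]
    [IsFractionRing R K] (G : Over (Spec (CommRingCat.of R))) [GrpObj G] [Flat G.hom] [IsSeparated G.hom]
    [QuasiCompact G.hom] (hgen : IsAffine (pullback G.hom (gFib (R := R) K))) : IsAffine G.left := by
  haveI : CompactSpace G.left := (quasiCompact_iff_compactSpace G.hom).mp inferInstance
  let F := Over.pullback (gFib (R := R) K)
  have hKflat : (algebraMap R K).Flat := RingHom.flat_algebraMap_iff.mpr (IsLocalization.flat K (nonZeroDivisors R))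
  haveI : Flat (gFib (R := R) K) := (HasRingHomProperty.Spec_iff (P := @Flat)).mpr hKflat
  haveI : IsAffine (F.obj G).left := hgen
  -- the generic fibre is that of the hull
  haveI hr : IsIso (fibHull G K).left := by
    haveI : IsIso (fibHull G K).left.appTop :=
      (ConcreteCategory.isIso_iff_bijective _).mpr (fib_bijective_of_flat G K hKflat)
    have e := Scheme.isoSpec_hom_naturality (fibHull G K).left
    have e2 : (fibHull G K).left = (F.obj G).left.isoSpec.hom ≫ Spec.map (fibHull G K).left.appTop ≫
        (F.obj (hullObj G)).left.isoSpec.inv := by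
      rw [← Category.assoc, e, Category.assoc, Iso.hom_inv_id]
      exact (Category.comp_id _).symm
    rw [e2]
    infer_instance
  haveI : IsIso (fibHull G K) := by
    haveI : IsIso ((Over.forget _).map (fibHull G K)) := hr
    exact isIso_of_reflects_iso (fibHull G K) (Over.forget _)
  let ρ := (toHull G).left
  haveI : Flat ρ := flat_toHull R G
  haveI : Surjective ρ := surjective_toHull R G
  haveI : QuasiCompact ρ := inferInstanceAs (QuasiCompact G.left.toSpecΓ)
  haveI : IsSeparated (ρ ≫ (hullObj G).hom) := by rw [Over.w (toHull G)]; infer_instance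
  haveI : IsSeparated ρ := IsSeparated.of_comp ρ (hullObj G).hom
  -- the kernel pair
  let Z : Over (Spec (CommRingCat.of R)) := Over.mk (pullback.fst ρ ρ ≫ G.hom)
  let P₁ : Z ⟶ G := Over.homMk (pullback.fst ρ ρ) rfl
  let P₂ : Z ⟶ G := Over.homMk (pullback.snd ρ ρ) (by
    show pullback.snd ρ ρ ≫ G.hom = pullback.fst ρ ρ ≫ G.hom
    rw [← Over.w (toHull G)]
    exact (pullback.condition_assoc (f := ρ) (g := ρ) (hullObj G).hom).symm)
  let j := pullback.fst Z.hom (gFib (R := R) K)
  have hP : P₁ ≫ toHull G = P₂ ≫ toHull G := Over.OverMorphism.ext pullback.condition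
  have h2 : F.map P₁ = F.map P₂ := by
    rw [← cancel_mono (fibHull G K)]
    show F.map P₁ ≫ F.map (toHull G) = F.map P₂ ≫ F.map (toHull G)
    rw [← F.map_comp, ← F.map_comp, hP]
  have h3 : j ≫ pullback.fst ρ ρ = j ≫ pullback.snd ρ ρ := by
    show j ≫ P₁.left = j ≫ P₂.left
    rw [← map_left_fst (K' := K) P₁, ← map_left_fst (K' := K) P₂, h2]
  -- the generic fibre is schematically dense in the kernel pair
  haveI : Flat Z.hom := inferInstanceAs (Flat (pullback.fst ρ ρ ≫ G.hom))
  haveI : IsSchemeTheoreticallyDominant (gFib (R := R) K) := by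
    refine GrpSchLib.SchDomFlat.isSchemeTheoreticallyDominant_of_injective _ ?_
    intro x y hxy
    have h := Scheme.ΓSpecIso_naturality (CommRingCat.ofHom (algebraMap R K))
    have hx := ConcreteCategory.congr_hom h x
    have hy := ConcreteCategory.congr_hom h y
    simp only [ConcreteCategory.comp_apply] at hx hy
    refine (ConcreteCategory.bijective_of_isIso (Scheme.ΓSpecIso (CommRingCat.of R)).hom).1
      (IsFractionRing.injective R K ?_)
    exact hx.symm.trans ((congrArg _ hxy).trans hy)
  haveI : IsSchemeTheoreticallyDominant j :=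
    inferInstanceAs (IsSchemeTheoreticallyDominant (pullback.fst Z.hom (gFib (R := R) K)))
  haveI : IsClosedImmersion (pullback.diagonal ρ) := IsSeparated.isClosedImmersion_diagonal
  haveI : IsIso (pullback.diagonal ρ) := by
    have e : (j ≫ pullback.fst ρ ρ) ≫ pullback.diagonal ρ = j := by
      apply pullback.hom_ext
      · simp
      · simp [h3]
    have hle := Scheme.Hom.le_ker_comp (j ≫ pullback.fst ρ ρ) (pullback.diagonal ρ)
    rw [e, Scheme.Hom.ker_eq_bot j, le_bot_iff] at hle
    exact IsClosedImmersion.isIso_iff_ker_eq_bot.mpr hle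
  haveI : Mono ρ := (pullback.isIso_diagonal_iff ρ).mp inferInstance
  haveI : IsIso ρ := DomHom.isIso_of_flat_surjective_mono ρ
  haveI : IsAffine (hullObj G).left := isAffine_Spec _
  exact IsAffine.of_isIso ρ

end Groth.Agent.GrpHull
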