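import Groth.Agent.DomHom.Main
import Groth.Agent.RedImage.Flat
import Groth.Agent.GrpSchLib.RankOneBig
import Groth.Agent.S5331

/-!
# Quasi-compact schematically dominant homomorphisms onto algebraic groups

A quasi-compact schematically dominant homomorphism from any group scheme to a group scheme locally of finite
type over a field is faithfully flat.
-/

universe u

open CategoryTheory Limits AlgebraicGeometry MonoidalCategory CartesianMonoidalCategory MonObj GrpObj
open Groth.Agent.GrpSchLib

set_option autoImplicit false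
set_option backward.isDefEq.respectTransparency false
set_option backward.isDefEq.respectTransparency.types false

namespace Groth.Agent.GrpHull

variable {k : Type u} [Field k] {G H : Over (Spec (CommRingCat.of k))} [GrpObj G] [GrpObj H]

theorem isSeparated_of_grp (X : Over (Spec (CommRingCat.of k))) [GrpObj X] : IsSeparated X.hom :=
  S5331.result (Spec (CommRingCat.of k)) X

/-- Above a maximal point of the target the homomorphism is flat, and has an affine flat surjective cover. -/
theorem exists_cover [LocallyOfFiniteType H.hom] (f : G ⟶ H) [IsMonHom f] [QuasiCompact f.left]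
    [IsSchemeTheoreticallyDominant f.left] {ξ : H.left} (hξ : DomHom.IsMaxPt ξ) :
    Flat (pullback.snd f.left (H.left.fromSpecStalk ξ)) ∧
      ∃ (C : Scheme.{u}) (a : C ⟶ G.left), Flat (a ≫ f.left) ∧ ξ ∈ Set.range (a ≫ f.left) := by
  classical
  haveI := isSeparated_of_grp H
  haveI : IsLocallyNoetherian H.left := LocallyOfFiniteType.isLocallyNoetherian H.hom
  let A := H.left.presheaf.stalk ξ
  haveI : IsArtinianRing A := H9Misc.RatFunLib.isArtinianRing_stalk ξ hξ
  let ιξ := H.left.fromSpecStalk ξ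
  haveI : Flat ιξ := flat_fromSpecStalk ξ
  haveI : CompactSpace ↥(pullback f.left ιξ) :=
    (quasiCompact_iff_compactSpace (pullback.snd f.left ιξ ≫ 𝟙 _)).mp inferInstance
  let 𝒰 := (pullback f.left ιξ).affineCover.finiteSubcover
  let C := ∐ 𝒰.X
  haveI : ∀ i, IsAffine (𝒰.X i) := fun i => inferInstanceAs (IsAffine ((pullback f.left ιξ).affineCover.X _))
  haveI : IsAffine C := inferInstance
  let π : Spec Γ(C, ⊤) ⟶ pullback f.left ιξ := C.isoSpec.inv ≫ Sigma.desc 𝒰.f
  haveI := GrpSchLib.ImageFlat.surjective_sigmaDesc 𝒰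
  haveI := GrpSchLib.ImageFlat.flat_sigmaDesc 𝒰
  haveI : Flat π := inferInstance
  haveI : Surjective π := inferInstance
  let a : Spec Γ(C, ⊤) ⟶ G.left := π ≫ pullback.fst f.left ιξ
  let v : Spec Γ(C, ⊤) ⟶ Spec A := π ≫ pullback.snd f.left ιξ
  have hva : v ≫ ιξ = a ≫ f.left := by simp only [v, a, Category.assoc, pullback.condition]
  haveI : Flat a := inferInstance
  obtain ⟨φ, hφ⟩ : ∃ φ : A ⟶ Γ(C, ⊤), Spec.map φ = v := ⟨_, Spec.map_preimage v⟩
  have hinj : Function.Injective φ.hom := by
    haveI : IsIso C.isoSpec.inv.appTop := inferInstanceAs (IsIso (Scheme.Γ.map C.isoSpec.inv.op))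
    have h1 : Function.Injective π.appTop := by
      rw [Scheme.Hom.comp_appTop]
      exact (ConcreteCategory.bijective_of_isIso C.isoSpec.inv.appTop).1.comp
        (GrpSchLib.ImageFlat.appTop_injective_sigmaDesc 𝒰)
    have h2 : Function.Injective v.appTop := by
      rw [Scheme.Hom.comp_appTop]
      exact h1.comp ((pullback.snd f.left ιξ).app_injective ⊤)
    have h3 : φ ≫ (Scheme.ΓSpecIso _).inv = (Scheme.ΓSpecIso A).inv ≫ v.appTop := by
      rw [← hφ]; exact Scheme.ΓSpecIso_inv_naturality φ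
    intro x y hxy
    refine (ConcreteCategory.bijective_of_isIso (Scheme.ΓSpecIso A).inv).1 (h2 ?_)
    have hx := ConcreteCategory.congr_hom h3 x
    have hy := ConcreteCategory.congr_hom h3 y
    simp only [ConcreteCategory.comp_apply] at hx hy
    rw [← hx, ← hy]
    exact congrArg _ hxy
  have hfl : Flat v := by
    rw [← hφ]
    refine GrpSchLib.ImageFlat.flat_of_pullback φ hinj ?_
    rw [hφ]
    obtain ⟨N, _, i, hi, _, _, hker⟩ := exists_kernel f
    obtain ⟨p, hp, hpe⟩ := exists_kernelPair_iso i f hker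
    haveI : Flat (pullback.snd f.left f.left) := by
      rw [← MorphismProperty.cancel_left_of_respectsIso @Flat p, hpe]
      exact inferInstanceAs (Flat (pullback.snd N.hom G.hom))
    haveI : Flat (pullback.fst f.left f.left) := by
      rw [← pullbackSymmetry_hom_comp_snd]; infer_instance
    haveI : Flat (pullback.fst (a ≫ f.left) f.left) := by
      rw [← pullbackRightPullbackFstIso_inv_fst]; infer_instance
    haveI : Flat (pullback.snd f.left (a ≫ f.left)) := by
      rw [← pullbackSymmetry_hom_comp_fst]; infer_instance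
    haveI : Flat (pullback.snd (a ≫ f.left) (a ≫ f.left)) := by
      rw [← pullbackRightPullbackFstIso_inv_snd_snd f.left (a ≫ f.left) a]; infer_instance
    haveI : Flat (pullback.fst (a ≫ f.left) (a ≫ f.left)) := by
      rw [← pullbackSymmetry_hom_comp_snd]; infer_instance
    have hk : IsKernelPair (v ≫ ιξ) (pullback.fst v v) (pullback.snd v v) :=
      IsKernelPair.comp_of_mono (IsPullback.of_hasPullback v v)
    rw [hva] at hk
    rw [← hk.isoPullback_hom_fst]
    infer_instance
  haveI := hfl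
  haveI : Nontrivial Γ(C, ⊤) := hinj.nontrivial
  obtain ⟨b⟩ : Nonempty ↥(Spec Γ(C, ⊤)) := inferInstance
  refine ⟨?_, Spec Γ(C, ⊤), a, ?_, ?_⟩
  · haveI : Flat (π ≫ pullback.snd f.left ιξ) := hfl
    exact GrpSchLib.RankOne.flat_of_comp π (pullback.snd f.left ιξ)
  · rw [← hva]; exact MorphismProperty.comp_mem @Flat _ _ hfl inferInstance
  · refine ⟨b, ?_⟩
    show (a ≫ f.left) b = ξ
    rw [← hva]
    have hb : ιξ (v b) ⤳ ξ := by
      show ιξ (v b) ∈ {y | y ⤳ ξ}
      rw [← Scheme.range_fromSpecStalk]; exact ⟨v b, rfl⟩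
    exact hξ _ hb

/-- If a point translates into the target flatly, translation preserves flatness after base change. -/
theorem translate {A₁ A₂ : Over (Spec (CommRingCat.of k))} (f : G ⟶ H) [IsMonHom f] (a' : A₁ ⟶ G) (bH : A₂ ⟶ H)
    (haf : Flat (a' ≫ f).left) (hbf : Flat bH.left) (hb : Flat (pullback.fst bH.left f.left)) :
    Flat ((fst A₁ A₂ ≫ a' ≫ f) * (snd A₁ A₂ ≫ bH)).left ∧
      Flat (pullback.fst ((fst A₁ A₂ ≫ a' ≫ f) * (snd A₁ A₂ ≫ bH)).left f.left) := by
  let T := A₁ ⊗ A₂
  let aH : A₁ ⟶ H := a' ≫ f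
  let ψ : T ⟶ H := (fst A₁ A₂ ≫ aH) * (snd A₁ A₂ ≫ bH)
  have hψ : Flat ψ.left := by
    have e : ψ = (aH ⊗ₘ bH) ≫ lift (fst H H * snd H H) (𝟙 _ ≫ snd H H) ≫ fst H H := by
      simp [ψ, T, MonObj.comp_mul]
    let σ : H ⊗ H ⟶ H ⊗ H := lift (fst H H * snd H H) (𝟙 _ ≫ snd H H)
    let σ' : H ⊗ H ⟶ H ⊗ H := lift (fst H H * (snd H H)⁻¹) (snd H H)
    haveI : IsIso σ := ⟨σ', CartesianMonoidalCategory.hom_ext _ _ (by simp [σ, σ', MonObj.comp_mul, GrpObj.comp_inv])
      (by simp [σ, σ']), CartesianMonoidalCategory.hom_ext _ _ (by simp [σ, σ', MonObj.comp_mul, GrpObj.comp_inv])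
      (by simp [σ, σ'])⟩
    haveI : IsIso σ.left := ((Over.forget _).mapIso (asIso σ)).isIso_hom
    haveI : Flat (aH ⊗ₘ bH).left := GrpSchLib.RankOne.property_tensorHom aH bH @Flat haf hbf
    haveI : Flat (fst H H).left := MorphismProperty.pullback_fst (P := @Flat) H.hom H.hom (DomHom.flat_over_field H)
    rw [e, Over.comp_left, Over.comp_left]
    exact inferInstanceAs (Flat ((aH ⊗ₘ bH).left ≫ σ.left ≫ (fst H H).left))
  refine ⟨hψ, ?_⟩
  show Flat (pullback.fst ψ.left f.left)
  -- pulled back along `ψ`, the homomorphism is a translate of its base change along `bH`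
  let w : T ⟶ H := snd A₁ A₂ ≫ bH
  let E := pullback w.left f.left
  let E' : Over (Spec (CommRingCat.of k)) := Over.mk (pullback.fst w.left f.left ≫ T.hom)
  let tE : E' ⟶ T := Over.homMk (pullback.fst w.left f.left) rfl
  let yE : E' ⟶ G := Over.homMk (pullback.snd w.left f.left) (by
    show pullback.snd w.left f.left ≫ G.hom = pullback.fst w.left f.left ≫ T.hom
    rw [← Over.w f, ← pullback.condition_assoc, Over.w w])
  have hsq : tE ≫ w = yE ≫ f := Over.OverMorphism.ext pullback.condition
  let y' : E' ⟶ G := (tE ≫ fst A₁ A₂ ≫ a') * yE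
  have hy' : tE ≫ ψ = y' ≫ f := by
    simp only [y', ψ, aH, MonObj.mul_comp, MonObj.comp_mul, Category.assoc]
    rw [show tE ≫ snd A₁ A₂ ≫ bH = yE ≫ f from hsq]
  let P : Over (Spec (CommRingCat.of k)) := Over.mk (pullback.fst ψ.left f.left ≫ T.hom)
  let tP : P ⟶ T := Over.homMk (pullback.fst ψ.left f.left) rfl
  let yP : P ⟶ G := Over.homMk (pullback.snd ψ.left f.left) (by
    show pullback.snd ψ.left f.left ≫ G.hom = pullback.fst ψ.left f.left ≫ T.hom
    rw [← Over.w f, ← pullback.condition_assoc, Over.w ψ])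
  have hsqP : tP ≫ ψ = yP ≫ f := Over.OverMorphism.ext pullback.condition
  let y₀ : P ⟶ G := (tP ≫ fst A₁ A₂ ≫ a')⁻¹ * yP
  have hy₀ : tP ≫ w = y₀ ≫ f := by
    simp only [y₀, MonObj.mul_comp, GrpObj.inv_comp, Category.assoc, ← hsqP, ψ, w, aH, MonObj.comp_mul]
    rw [inv_mul_cancel_left]
  let u : P.left ⟶ E := pullback.lift tP.left y₀.left (congrArg CommaMorphism.left hy₀)
  let v : E ⟶ P.left := pullback.lift tE.left y'.left (congrArg CommaMorphism.left hy')
  let uO : P ⟶ E' := Over.homMk u (by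
    show u ≫ pullback.fst w.left f.left ≫ T.hom = _
    rw [pullback.lift_fst_assoc]; exact Over.w tP)
  let vO : E' ⟶ P := Over.homMk v (by
    show v ≫ pullback.fst ψ.left f.left ≫ T.hom = _
    rw [pullback.lift_fst_assoc]; rfl)
  have e1 : uO ≫ tE = tP := Over.OverMorphism.ext (pullback.lift_fst _ _ _)
  have e2 : uO ≫ yE = y₀ := Over.OverMorphism.ext (pullback.lift_snd _ _ _)
  have e3 : vO ≫ tP = tE := Over.OverMorphism.ext (pullback.lift_fst _ _ _)
  have e4 : vO ≫ yP = y' := Over.OverMorphism.ext (pullback.lift_snd _ _ _)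
  have huv : u ≫ v = 𝟙 _ := by
    have : uO ≫ y' = yP := by
      simp only [y', MonObj.comp_mul, ← Category.assoc, e1, e2]
      simp only [y₀, Category.assoc, mul_inv_cancel_left]
    apply pullback.hom_ext
    · rw [Category.id_comp, Category.assoc, pullback.lift_fst]
      exact congrArg CommaMorphism.left e1
    · rw [Category.id_comp, Category.assoc, pullback.lift_snd]
      exact congrArg CommaMorphism.left this
  have hvu : v ≫ u = 𝟙 _ := by
    have : vO ≫ y₀ = yE := by
      simp only [y₀, MonObj.comp_mul, GrpObj.comp_inv, ← Category.assoc, e3, e4]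
      simp only [y', Category.assoc, inv_mul_cancel_left]
    apply pullback.hom_ext
    · rw [Category.id_comp, Category.assoc, pullback.lift_fst]
      exact congrArg CommaMorphism.left e3
    · rw [Category.id_comp, Category.assoc, pullback.lift_snd]
      exact congrArg CommaMorphism.left this
  haveI : IsIso u := ⟨v, huv, hvu⟩
  haveI : Flat (pullback.fst w.left f.left) := by
    let l : E ⟶ pullback bH.left f.left := pullback.lift (pullback.fst w.left f.left ≫ (snd A₁ A₂).left)
      (pullback.snd w.left f.left) (by rw [Category.assoc]; exact pullback.condition)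
    have hl : IsPullback l (pullback.fst w.left f.left) (pullback.fst bH.left f.left) (snd A₁ A₂).left := by
      refine IsPullback.of_right (h₁₂ := pullback.snd bH.left f.left) (h₂₂ := bH.left) (v₁₃ := f.left) ?_
        (pullback.lift_fst _ _ _) (IsPullback.of_hasPullback bH.left f.left).flip
      rw [pullback.lift_snd]
      exact (IsPullback.of_hasPullback w.left f.left).flip
    exact MorphismProperty.of_isPullback hl hb
  have hu : pullback.fst ψ.left f.left = u ≫ pullback.fst w.left f.left := (pullback.lift_fst _ _ _).symm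
  rw [hu]
  infer_instance

/-- Locally at a point of the target, a flat morphism onto it which pulls the homomorphism back to a flat one. -/
theorem exists_flat_cover [LocallyOfFiniteType H.hom] (f : G ⟶ H) [IsMonHom f] [QuasiCompact f.left]
    [IsSchemeTheoreticallyDominant f.left] (h : H.left) :
    ∃ (T : Over (Spec (CommRingCat.of k))) (ψ : T ⟶ H), Flat ψ.left ∧ h ∈ Set.range ψ.left ∧
      Flat (pullback.fst ψ.left f.left) := by
  obtain ⟨K, _, q, a, b, ha, hb, hab⟩ := DomHom.exists_factor H h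
  let z : ↥(Spec (CommRingCat.of K)) := IsLocalRing.closedPoint K
  obtain ⟨-, C₁, a₁, ha₁, ⟨c₁, hc₁⟩⟩ := exists_cover f (ha z)
  obtain ⟨hb₂, -⟩ := exists_cover f (hb z)
  let ιb := H.left.fromSpecStalk (b.left z)
  let A₁ : Over (Spec (CommRingCat.of k)) := Over.mk (a₁ ≫ G.hom)
  let A₂ : Over (Spec (CommRingCat.of k)) := Over.mk (ιb ≫ H.hom)
  let a' : A₁ ⟶ G := Over.homMk a₁ rfl
  let bH : A₂ ⟶ H := Over.homMk ιb rfl
  haveI : Flat ιb := flat_fromSpecStalk _
  have hfst : Flat (pullback.fst ιb f.left) := by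
    haveI : Flat (pullback.snd f.left ιb) := hb₂
    rw [← pullbackSymmetry_hom_comp_snd]; infer_instance
  obtain ⟨hψ, hψf⟩ := translate f a' bH (by exact ha₁) (by exact ‹Flat ιb›) (by exact hfst)
  refine ⟨A₁ ⊗ A₂, (fst A₁ A₂ ≫ a' ≫ f) * (snd A₁ A₂ ≫ bH), hψ, ?_, hψf⟩
  obtain ⟨p₁, hp₁, -⟩ := Scheme.exists_preimage_of_isPullback
    (IsPullback.of_hasPullback a.left (a₁ ≫ f.left)) z c₁ hc₁.symm
  obtain ⟨d, hd⟩ : b.left z ∈ Set.range ιb := by rw [Scheme.range_fromSpecStalk]; exact specializes_rfl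
  obtain ⟨p₂, hp₂, -⟩ := Scheme.exists_preimage_of_isPullback (IsPullback.of_hasPullback b.left ιb) z d hd.symm
  obtain ⟨p, -, -⟩ := Scheme.exists_preimage_of_isPullback
    (IsPullback.of_hasPullback (pullback.fst a.left (a₁ ≫ f.left)) (pullback.fst b.left ιb)) p₁ p₂ (hp₁.trans hp₂.symm)
  let P := pullback (pullback.fst a.left (a₁ ≫ f.left)) (pullback.fst b.left ιb)
  let j : P ⟶ Spec (CommRingCat.of K) := pullback.fst _ _ ≫ pullback.fst a.left (a₁ ≫ f.left)
  let PO : Over (Spec (CommRingCat.of k)) := Over.mk (j ≫ q)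
  let jo : PO ⟶ Over.mk q := Over.homMk j
  have hj : j = pullback.snd _ _ ≫ pullback.fst b.left ιb := pullback.condition
  let s₁ : PO ⟶ A₁ := Over.homMk (pullback.fst _ _ ≫ pullback.snd a.left (a₁ ≫ f.left)) (by
    show (_ ≫ _) ≫ a₁ ≫ G.hom = j ≫ q
    simp only [j, Category.assoc]
    rw [← Over.w f, ← Category.assoc a₁, ← pullback.condition_assoc, Over.w a]
    rfl)
  let s₂ : PO ⟶ A₂ := Over.homMk (pullback.snd _ _ ≫ pullback.snd b.left ιb) (by
    show (_ ≫ _) ≫ ιb ≫ H.hom = j ≫ q
    rw [hj]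
    simp only [Category.assoc]
    rw [← pullback.condition_assoc, Over.w b]
    rfl)
  have h₁ : s₁ ≫ a' ≫ f = jo ≫ a := by
    refine Over.OverMorphism.ext ?_
    show (_ ≫ _) ≫ a₁ ≫ f.left = j ≫ a.left
    simp only [j, Category.assoc]
    rw [← pullback.condition (f := a.left) (g := a₁ ≫ f.left)]
  have h₂ : s₂ ≫ bH = jo ≫ b := by
    refine Over.OverMorphism.ext ?_
    show (_ ≫ _) ≫ ιb = j ≫ b.left
    rw [hj]
    simp only [Category.assoc]
    rw [← pullback.condition (f := b.left) (g := ιb)]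
  refine ⟨(lift s₁ s₂).left p, ?_⟩
  show (lift s₁ s₂ ≫ ((fst A₁ A₂ ≫ a' ≫ f) * (snd A₁ A₂ ≫ bH))).left p = h
  rw [MonObj.comp_mul, lift_fst_assoc, lift_snd_assoc, h₁, h₂, ← MonObj.comp_mul]
  exact hab _

/-- A quasi-compact schematically dominant homomorphism onto a group locally of finite type is faithfully flat. -/
theorem flat_surjective_of_dominant [LocallyOfFiniteType H.hom] (f : G ⟶ H) [IsMonHom f] [QuasiCompact f.left]
    [IsSchemeTheoreticallyDominant f.left] : Flat f.left ∧ Surjective f.left := by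
  haveI : IsDominant f.left := inferInstance
  refine ⟨?_, DomHom.surjective_of_denseRange f f.left.denseRange⟩
  choose T ψ hψ hh hfl using exists_flat_cover f
  let P : H.left → Scheme.{u} := fun h => pullback (ψ h).left f.left
  let p : ∐ P ⟶ G.left := Sigma.desc fun h => pullback.snd (ψ h).left f.left
  haveI : Flat p := by
    refine (IsZariskiLocalAtSource.iff_of_openCover (P := @Flat) (sigmaOpenCover P)).mpr fun h => ?_
    show Flat (Sigma.ι P h ≫ p)
    rw [Sigma.ι_desc]
    exact MorphismProperty.pullback_snd (P := @Flat) _ _ (hψ h)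
  haveI : Surjective p := by
    refine ⟨fun y => ?_⟩
    obtain ⟨t, ht⟩ := hh (f.left y)
    obtain ⟨x, -, hx⟩ := Scheme.exists_preimage_of_isPullback
      (IsPullback.of_hasPullback (ψ (f.left y)).left f.left) t y ht
    refine ⟨Sigma.ι P (f.left y) x, ?_⟩
    rw [← Scheme.Hom.comp_apply, Sigma.ι_desc]
    exact hx
  haveI : Flat (p ≫ f.left) := by
    refine (IsZariskiLocalAtSource.iff_of_openCover (P := @Flat) (sigmaOpenCover P)).mpr fun h => ?_
    show Flat (Sigma.ι P h ≫ p ≫ f.left)
    rw [Sigma.ι_desc_assoc, ← pullback.condition]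
    exact MorphismProperty.comp_mem @Flat _ _ (hfl h) (hψ h)
  exact GrpSchLib.RankOne.flat_of_comp p f.left

end Groth.Agent.GrpHull
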