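import Groth.Agent.GrpHull.Fibre
import Groth.Agent.S5380
import Mathlib.RingTheory.DedekindDomain.Dvr
import Mathlib.RingTheory.Localization.BaseChange
import Mathlib.RingTheory.Flat.Localization
import Mathlib.LinearAlgebra.TensorProduct.Quotient

/-!
# The affine hull of a flat group scheme over a Dedekind domain
-/

universe u

open CategoryTheory Limits AlgebraicGeometry MonoidalCategory CartesianMonoidalCategory MonObj GrpObj
open scoped TensorProduct
open scoped CategoryTheory.Obj

set_option autoImplicit false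
set_option linter.all false
set_option backward.isDefEq.respectTransparency false
set_option backward.isDefEq.respectTransparency.types false

namespace Groth.Agent.GrpHull

variable (R : Type u) [CommRing R] [IsDedekindDomain R] (G : Over (Spec (CommRingCat.of R))) [GrpObj G] [Flat G.hom]
  [QuasiCompact G.hom] [QuasiSeparated G.hom]

/-- The fibres of the hull are good. -/
theorem exists_good_fibre (P : Ideal R) [P.IsPrime] :
    ∃ (K' : Type u) (_ : Field K') (_ : Algebra R K'), RingHom.ker (algebraMap R K') = P ∧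
      Flat (fibHull G K').left ∧ Surjective (fibHull G K').left := by
  by_cases hP : P = ⊥
  · refine ⟨FractionRing R, inferInstance, inferInstance, ?_, ?_⟩
    · rw [hP, ← RingHom.injective_iff_ker_eq_bot]
      exact IsFractionRing.injective R (FractionRing R)
    · refine fib_flat_surjective G (FractionRing R) (fib_bijective_of_flat G _ ?_).1
      exact RingHom.flat_algebraMap_iff.mpr (IsLocalization.flat (FractionRing R) (nonZeroDivisors R))
  · haveI : P.IsMaximal := Ideal.IsPrime.isMaximal inferInstance hP
    letI := Ideal.Quotient.field P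
    exact ⟨R ⧸ P, inferInstance, inferInstance, Ideal.mk_ker,
      fib_flat_surjective G (R ⧸ P) (fib_injective_of_closed G P hP)⟩

theorem surjective_toHull : Surjective (toHull G).left := by
  refine ⟨fun x => ?_⟩
  let P : Ideal R := ((hullObj G).hom x).asIdeal
  obtain ⟨K', _, _, hker, -, hs⟩ := exists_good_fibre R G P
  have hx : (hullObj G).hom x = gFib (R := R) K' (IsLocalRing.closedPoint K') := by
    refine PrimeSpectrum.ext ?_
    show P = Ideal.comap (algebraMap R K') (IsLocalRing.maximalIdeal K')
    rw [IsLocalRing.maximalIdeal_eq_bot, ← RingHom.ker_eq_comap_bot, hker]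
  obtain ⟨x', hx', -⟩ := Scheme.exists_preimage_of_isPullback
    (IsPullback.of_hasPullback (hullObj G).hom (gFib (R := R) K')) x (IsLocalRing.closedPoint K') hx
  obtain ⟨y, hy⟩ := hs.surj x'
  refine ⟨pullback.fst G.hom (gFib (R := R) K') y, ?_⟩
  rw [← Scheme.Hom.comp_apply, ← fibHull_fst, Scheme.Hom.comp_apply]
  exact (congrArg (pullback.fst (hullObj G).hom (gFib (R := R) K')) hy).trans hx'

section Flatness

variable {R G}
variable {Γ₀ B : CommRingCat.{u}}

theorem isPullback_map {K' : Type u} [Field K'] [Algebra R K'] {A A' : Over (Spec (CommRingCat.of R))} (a : A ⟶ A') :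
    IsPullback (pullback.fst A.hom (gFib (R := R) K')) ((Over.pullback (gFib (R := R) K')).map a).left a.left
      (pullback.fst A'.hom (gFib (R := R) K')) := by
  refine IsPullback.of_bot (v₂₁ := pullback.snd A'.hom (gFib (R := R) K')) (v₂₂ := A'.hom)
    (h₃₁ := gFib (R := R) K') ?_ (map_left_fst a).symm (IsPullback.of_hasPullback _ _)
  have e1 : ((Over.pullback (gFib (R := R) K')).map a).left ≫ pullback.snd A'.hom (gFib (R := R) K') =
      pullback.snd A.hom (gFib (R := R) K') := pullback.lift_snd _ _ _
  rw [e1, Over.w a]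
  exact IsPullback.of_hasPullback _ _

omit [Flat G.hom] [QuasiCompact G.hom] [QuasiSeparated G.hom] [GrpObj G] in
/-- Flatness of the hull morphism after base change to a ring living over a good fibre. -/
theorem flat_of_fibre {K' : Type u} [Field K'] [Algebra R K'] (hfl : Flat (fibHull G K').left)
    (π : Spec B ⟶ G.left) [Flat π] (φ : Γ(G.left, ⊤) ⟶ B) (hφ : Spec.map φ = π ≫ G.left.toSpecΓ)
    (T : Type u) [CommRing T] [Algebra Γ(G.left, ⊤) T] (j : K' →+* T)
    (hj : ∀ r, j (algebraMap R K' r) = algebraMap Γ(G.left, ⊤) T (scal G.hom r)) :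
    letI := φ.hom.toAlgebra
    Module.Flat T (T ⊗[Γ(G.left, ⊤)] B) := by
  letI := φ.hom.toAlgebra
  let g := gFib (R := R) K'
  let C : Over (Spec (CommRingCat.of R)) := Over.mk (π ≫ G.hom)
  let πo : C ⟶ G := Over.homMk π rfl
  -- the base change of the composite to the fibre is flat
  have h1 : Flat ((Over.pullback g).map (πo ≫ toHull G)).left := by
    rw [Functor.map_comp, Over.comp_left]
    haveI : Flat ((Over.pullback g).map πo).left :=
      MorphismProperty.of_isPullback (P := @Flat) (isPullback_map πo) (by exact ‹Flat π›)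
    exact MorphismProperty.comp_mem @Flat _ _ ‹_› hfl
  -- and so is that to the given ring
  let sT : Spec (CommRingCat.of T) ⟶ Spec Γ(G.left, ⊤) := Spec.map (CommRingCat.ofHom (algebraMap Γ(G.left, ⊤) T))
  let u : Spec (CommRingCat.of T) ⟶ pullback (Spec.map (scal G.hom)) g := pullback.lift sT
    (Spec.map (CommRingCat.ofHom j)) (by
      show Spec.map _ ≫ Spec.map _ = Spec.map _ ≫ Spec.map _
      rw [← Spec.map_comp, ← Spec.map_comp]
      exact congrArg Spec.map (CommRingCat.hom_ext (RingHom.ext fun r => (hj r).symm)))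
  have hq := (IsPullback.of_hasPullback ((Over.pullback g).map (πo ≫ toHull G)).left u).paste_horiz
    (isPullback_map (πo ≫ toHull G))
  have hs : u ≫ pullback.fst (hullObj G).hom (gFib (R := R) K') = sT := pullback.lift_fst _ _ _
  have hw : (πo ≫ toHull G).left = Spec.map φ := hφ.symm
  erw [hs, hw] at hq
  haveI : Flat (pullback.snd ((Over.pullback g).map (πo ≫ toHull G)).left u) :=
    MorphismProperty.pullback_snd (P := @Flat) _ _ h1
  haveI : Flat (pullback.fst sT (Spec.map φ)) := by
    rw [← hq.flip.isoPullback_inv_fst]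
    exact MorphismProperty.comp_mem @Flat _ _ (MorphismProperty.of_isIso @Flat _) ‹_›
  have e : Spec.map φ = Spec.map (CommRingCat.ofHom (algebraMap Γ(G.left, ⊤) B)) := rfl
  rw [e] at this
  haveI : Flat (Spec.map (CommRingCat.ofHom
      (Algebra.TensorProduct.includeLeftRingHom (R := Γ(G.left, ⊤)) (A := T) (B := B)))) := by
    rw [← pullbackSpecIso_inv_fst]
    exact MorphismProperty.comp_mem @Flat _ _ (MorphismProperty.of_isIso @Flat _) this
  exact RingHom.flat_algebraMap_iff.mp ((HasRingHomProperty.Spec_iff (P := @Flat)).mp ‹_›)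

end Flatness

/-- The hull morphism is flat. -/
theorem flat_toHull : Flat (toHull G).left := by
  classical
  haveI : CompactSpace G.left := (quasiCompact_iff_compactSpace G.hom).mp inferInstance
  let 𝒰 := G.left.affineCover.finiteSubcover
  let C := ∐ 𝒰.X
  haveI : ∀ i, IsAffine (𝒰.X i) := fun i => inferInstanceAs (IsAffine (G.left.affineCover.X _))
  haveI : IsAffine C := inferInstance
  let π : Spec Γ(C, ⊤) ⟶ G.left := C.isoSpec.inv ≫ Sigma.desc 𝒰.f
  haveI := GrpSchLib.ImageFlat.surjective_sigmaDesc 𝒰
  haveI := GrpSchLib.ImageFlat.flat_sigmaDesc 𝒰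
  haveI : Flat π := inferInstance
  haveI : Surjective π := inferInstance
  obtain ⟨φ, hφ⟩ : ∃ φ : Γ(G.left, ⊤) ⟶ Γ(C, ⊤), Spec.map φ = π ≫ G.left.toSpecΓ := ⟨_, Spec.map_preimage _⟩
  rw [toHull_left]
  suffices h : φ.hom.Flat by
    haveI : Flat (π ≫ G.left.toSpecΓ) := hφ ▸ (HasRingHomProperty.Spec_iff (P := @Flat)).mpr h
    exact GrpSchLib.RankOne.flat_of_comp π G.left.toSpecΓ
  let Γ₁ : Type u := Γ(G.left, ⊤)
  let B₁ : Type u := Γ(C, ⊤)
  letI : Algebra R Γ₁ := (scal G.hom).hom.toAlgebra
  letI : Algebra Γ₁ B₁ := φ.hom.toAlgebra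
  letI : Algebra R B₁ := ((algebraMap Γ₁ B₁).comp (algebraMap R Γ₁)).toAlgebra
  haveI : IsScalarTower R Γ₁ B₁ := IsScalarTower.of_algebraMap_eq fun _ => rfl
  show Module.Flat Γ₁ B₁
  haveI : Module.Flat R Γ₁ := flat_scal G.hom
  haveI : Module.Flat R B₁ := by
    have hf : Flat (π ≫ G.hom) := inferInstance
    have e : π ≫ G.hom = Spec.map (scal G.hom ≫ φ) := by
      rw [Spec.map_comp, hφ, Category.assoc]
      exact congrArg (π ≫ ·) (Over.w (toHull G)).symm
    rw [e] at hf
    exact (HasRingHomProperty.Spec_iff (P := @Flat)).mp hf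
  have hfib : ∀ (T : Type u) [CommRing T] [Algebra Γ₁ T] (K' : Type u) [Field K'] [Algebra R K'] (j : K' →+* T),
      Flat (fibHull G K').left → (∀ r, j (algebraMap R K' r) = algebraMap Γ₁ T (algebraMap R Γ₁ r)) →
      Module.Flat T (T ⊗[Γ₁] B₁) := fun T _ _ K' _ _ j h1 h2 => flat_of_fibre h1 π φ hφ T j h2
  refine Module.flat_of_localized_maximal B₁ fun m hm => ?_
  haveI := hm
  let L := Localization.AtPrime m
  suffices hL : Module.Flat L (L ⊗[Γ₁] B₁) by
    have hb := IsLocalizedModule.isBaseChange m.primeCompl L (LocalizedModule.mkLinearMap m.primeCompl B₁)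
    haveI : Module.Flat L (LocalizedModule m.primeCompl B₁) := Module.Flat.of_linearEquiv hb.equiv.symm
    haveI : Module.Flat Γ₁ L := IsLocalization.flat L m.primeCompl
    exact Module.Flat.trans Γ₁ L _
  by_cases hR : IsField R
  · have hu : ∀ r : nonZeroDivisors R, IsUnit ((algebraMap R L) r) := fun r =>
      IsUnit.map _ (hR.mul_inv_cancel (nonZeroDivisors.ne_zero r.2) |>.elim fun b hb => IsUnit.of_mul_eq_one b hb)
    refine hfib L (FractionRing R) (IsLocalization.lift hu)
      (fib_flat_surjective G (FractionRing R) (fib_bijective_of_flat G _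
        (RingHom.flat_algebraMap_iff.mpr (IsLocalization.flat (FractionRing R) (nonZeroDivisors R)))).1).1
      (fun r => ?_)
    rw [IsLocalization.lift_eq, IsScalarTower.algebraMap_apply R Γ₁ L]
  obtain ⟨P, hP, hmP⟩ := Ideal.exists_le_maximal (m.comap (algebraMap R Γ₁)) (Ideal.comap_ne_top _ hm.ne_top)
  haveI := hP
  have hP0 : P ≠ ⊥ := (Ideal.bot_lt_of_maximal P hR).ne'
  let A := Localization (Algebra.algebraMapSubmonoid Γ₁ P.primeCompl)
  let RP := Localization.AtPrime P
  haveI : IsDiscreteValuationRing RP := IsLocalization.AtPrime.isDiscreteValuationRing_of_dedekind_domain R hP0 RP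
  letI : Algebra RP A := localizationAlgebra P.primeCompl Γ₁
  haveI : IsScalarTower R RP A := IsScalarTower.of_algebraMap_eq fun r => by rw [IsScalarTower.algebraMap_apply R Γ₁ A]; exact (IsLocalization.map_eq _ r).symm
  haveI : Module.Flat Γ₁ A := IsLocalization.flat A (Algebra.algebraMapSubmonoid Γ₁ P.primeCompl)
  haveI : Module.Flat RP A := (Module.flat_iff_of_isLocalization RP P.primeCompl A).mpr (Module.Flat.trans R Γ₁ A)
  let M := A ⊗[Γ₁] B₁
  haveI : Module.Flat R M := by
    haveI : Module.IsTorsionFree R M := by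
      refine ⟨fun {r} hr => ?_⟩
      let mB : B₁ →ₗ[Γ₁] B₁ := algebraMap R Γ₁ r • LinearMap.id
      have hmB : Function.Injective mB := by
        intro x y hxy
        refine Module.Flat.isSMulRegular_of_isRegular (M := B₁) hr ?_
        show r • x = r • y
        rw [← IsScalarTower.algebraMap_smul Γ₁ r x, ← IsScalarTower.algebraMap_smul Γ₁ r y]
        exact hxy
      have h2 := Module.Flat.lTensor_preserves_injective_linearMap (M := A) mB hmB
      intro x y hxy
      refine h2 ?_
      simp only [mB, LinearMap.lTensor_smul, LinearMap.lTensor_id, LinearMap.smul_apply, LinearMap.id_apply]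
      rw [IsScalarTower.algebraMap_smul, IsScalarTower.algebraMap_smul]
      exact hxy
    infer_instance
  haveI : Module.Flat RP M := (Module.flat_iff_of_isLocalization RP P.primeCompl M).mpr inferInstance
  obtain ⟨ϖ, hϖ⟩ := IsDiscreteValuationRing.exists_irreducible RP
  suffices hA : Module.Flat A M by
    -- localise further
    have hle : Algebra.algebraMapSubmonoid Γ₁ P.primeCompl ≤ m.primeCompl := by
      rintro _ ⟨r, hr, rfl⟩ hrm
      exact hr (hmP hrm)
    letI : Algebra A L := IsLocalization.localizationAlgebraOfSubmonoidLe A L _ m.primeCompl hle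
    haveI : IsScalarTower Γ₁ A L := IsLocalization.localization_isScalarTower_of_submonoid_le A L _ m.primeCompl hle
    exact Module.Flat.of_linearEquiv (TensorProduct.AlgebraTensorModule.cancelBaseChange Γ₁ A L L B₁).symm
  refine S5380.result RP ϖ hϖ A M ?_ ?_
  · -- modulo the uniformiser
    let I : Ideal A := Ideal.span {algebraMap RP A ϖ}
    obtain ⟨K', _, _, hker, hfl, -⟩ := exists_good_fibre R G P
    have hT : Module.Flat (A ⧸ I) ((A ⧸ I) ⊗[Γ₁] B₁) := by
      letI := Ideal.Quotient.field P
      refine hfib (A ⧸ I) (R ⧸ P) (Ideal.Quotient.lift P ((Ideal.Quotient.mk I).comp (algebraMap R A)) ?_)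
        (fib_flat_surjective G (R ⧸ P) (fib_injective_of_closed G P hP0)).1 (fun r => ?_)
      · intro p hp
        rw [RingHom.comp_apply, Ideal.Quotient.eq_zero_iff_mem, IsScalarTower.algebraMap_apply R RP A]
        have h1 : algebraMap R RP p ∈ IsLocalRing.maximalIdeal RP :=
          (IsLocalization.AtPrime.to_map_mem_maximal_iff RP P p).mpr hp
        rw [(IsDiscreteValuationRing.irreducible_iff_uniformizer ϖ).mp hϖ, Ideal.mem_span_singleton] at h1
        exact Ideal.mem_span_singleton.mpr (map_dvd _ h1)
      · show Ideal.Quotient.mk I (algebraMap R A r) = _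
        rw [IsScalarTower.algebraMap_apply R Γ₁ A]
        rfl
    haveI : Module.Flat (A ⧸ I) ((A ⧸ I) ⊗[A] M) :=
      Module.Flat.of_linearEquiv (TensorProduct.AlgebraTensorModule.cancelBaseChange Γ₁ A (A ⧸ I) (A ⧸ I) B₁)
    exact Module.Flat.of_linearEquiv
      (LinearEquiv.extendScalarsOfSurjective Ideal.Quotient.mk_surjective (TensorProduct.quotTensorEquivQuotSMul M I)).symm
  · -- away from the uniformiser
    let a := algebraMap RP A ϖ
    let A' := Localization.Away a
    have hT : Module.Flat A' (A' ⊗[Γ₁] B₁) := by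
      have hu : ∀ r : nonZeroDivisors R, IsUnit ((algebraMap R A') r) := by
        intro r
        rw [IsScalarTower.algebraMap_apply R A A', IsScalarTower.algebraMap_apply R RP A]
        have hne : algebraMap R RP r ≠ 0 := fun h => nonZeroDivisors.ne_zero r.2
          (IsLocalization.injective RP P.primeCompl_le_nonZeroDivisors (h.trans (map_zero _).symm))
        obtain ⟨n, v, hv⟩ := IsDiscreteValuationRing.eq_unit_mul_pow_irreducible hne hϖ
        rw [hv, map_mul, map_mul, map_pow, map_pow]
        exact ((v.isUnit.map _).map _).mul ((IsLocalization.Away.algebraMap_isUnit a).pow n)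
      refine hfib A' (FractionRing R) (IsLocalization.lift hu)
        (fib_flat_surjective G (FractionRing R) (fib_bijective_of_flat G _
          (RingHom.flat_algebraMap_iff.mpr (IsLocalization.flat (FractionRing R) (nonZeroDivisors R)))).1).1
        (fun r => ?_)
      rw [IsLocalization.lift_eq, IsScalarTower.algebraMap_apply R Γ₁ A']
    haveI : Module.Flat A' (A' ⊗[A] M) :=
      Module.Flat.of_linearEquiv (TensorProduct.AlgebraTensorModule.cancelBaseChange Γ₁ A A' A' B₁)
    have hb := IsLocalizedModule.isBaseChange (Submonoid.powers a) A'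
      (LocalizedModule.mkLinearMap (Submonoid.powers a) M)
    exact Module.Flat.of_linearEquiv hb.equiv.symm

end Groth.Agent.GrpHull
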