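import Groth.Agent.S5381
import Mathlib.AlgebraicGeometry.Morphisms.Flat
import Mathlib.Algebra.Category.Ring.Constructions
import Mathlib.RingTheory.DedekindDomain.Basic
import Mathlib.RingTheory.DedekindDomain.Ideal.Lemmas

/-!
# Global functions of fibre products over a Dedekind domain
-/

universe u

open CategoryTheory Limits AlgebraicGeometry TopologicalSpace
open scoped TensorProduct

set_option autoImplicit false
set_option linter.all false
set_option backward.isDefEq.respectTransparency false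
set_option backward.isDefEq.respectTransparency.types false

namespace Groth.Agent.GrpHull

variable {R : Type u} [CommRing R]

/-- The scalars among the functions. -/
noncomputable def scal {X : Scheme.{u}} (f : X ⟶ Spec (CommRingCat.of R)) : CommRingCat.of R ⟶ Γ(X, ⊤) :=
  (Scheme.ΓSpecIso (CommRingCat.of R)).inv ≫ f.appTop

theorem scal_comp {X Y : Scheme.{u}} (h : Y ⟶ X) (f : X ⟶ Spec (CommRingCat.of R)) :
    scal f ≫ h.appTop = scal (h ≫ f) := by
  rw [scal, scal, Category.assoc, Scheme.Hom.comp_appTop]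

/-- A pushout of rings is generated by the two legs. -/
theorem mem_of_isPushout {A B C D : CommRingCat.{u}} {f : A ⟶ B} {g : A ⟶ C} {i : B ⟶ D} {j : C ⟶ D}
    (h : IsPushout f g i j) (S : Subring D) (hi : ∀ b, i b ∈ S) (hj : ∀ c, j c ∈ S) (d : D) : d ∈ S := by
  let i' : B ⟶ CommRingCat.of S := CommRingCat.ofHom (i.hom.codRestrict S hi)
  let j' : C ⟶ CommRingCat.of S := CommRingCat.ofHom (j.hom.codRestrict S hj)
  have hw : f ≫ i' = g ≫ j' := by
    refine CommRingCat.hom_ext (RingHom.ext fun a => Subtype.ext ?_)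
    exact ConcreteCategory.congr_hom h.w a
  let t : D ⟶ CommRingCat.of S := h.desc i' j' hw
  have ht : t ≫ CommRingCat.ofHom S.subtype = 𝟙 D := by
    refine h.hom_ext ?_ ?_
    · rw [Category.comp_id, ← Category.assoc, h.inl_desc]; rfl
    · rw [Category.comp_id, ← Category.assoc, h.inr_desc]; rfl
  have := ConcreteCategory.congr_hom ht d
  simp only [ConcreteCategory.comp_apply, ConcreteCategory.id_apply] at this
  rw [← this]
  exact (t d).2

/-- Functions on a product, when one factor is flat and the other has flat functions. -/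
theorem isPushout_functions {X Y : Scheme.{u}} (fX : X ⟶ Spec (CommRingCat.of R)) (fY : Y ⟶ Spec (CommRingCat.of R))
    [QuasiCompact fX] [QuasiSeparated fX] [QuasiCompact fY] [QuasiSeparated fY] [Flat fY]
    (hX : (scal fX).hom.Flat) :
    IsPushout (scal fX) (scal fY) (pullback.fst fX fY).appTop (pullback.snd fX fY).appTop := by
  haveI : CompactSpace X := (quasiCompact_iff_compactSpace fX).mp inferInstance
  haveI : CompactSpace Y := (quasiCompact_iff_compactSpace fY).mp inferInstance
  haveI : QuasiSeparatedSpace X := quasiSeparatedSpace_of_quasiSeparated fX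
  haveI : QuasiSeparatedSpace Y := quasiSeparatedSpace_of_quasiSeparated fY
  have e : ∀ {A B : Scheme.{u}} (h : A ⟶ B) (p : (⊤ : A.Opens) ≤ h ⁻¹ᵁ ⊤), h.appLE ⊤ ⊤ p = h.appTop :=
    fun h _ => (Scheme.Hom.app_eq_appLE h (U := ⊤)).symm
  have hflat : (fX.appLE ⊤ ⊤ le_top).hom.Flat := by
    have h1 : fX.appLE ⊤ ⊤ le_top = (Scheme.ΓSpecIso (CommRingCat.of R)).hom ≫ scal fX := by
      rw [e, scal, Iso.hom_inv_id_assoc]
    rw [h1, CommRingCat.hom_comp]
    exact (RingHom.Flat.of_bijective
      (ConcreteCategory.bijective_of_isIso (Scheme.ΓSpecIso (CommRingCat.of R)).hom)).comp hX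
  have hiso := isIso_pushoutSection_of_isCompact_of_flat_right_of_ringHomFlat
    (IsPullback.of_hasPullback fX fY) (US := ⊤) (UT := ⊤) (UX := ⊤) (UY := ⊤)
    le_top le_top (by simp) (isAffineOpen_top _) isCompact_univ isQuasiSeparated_univ isCompact_univ
    isQuasiSeparated_univ hflat
  have h := (isIso_pushoutSection_iff (IsPullback.of_hasPullback fX fY) (US := ⊤) (UT := ⊤) (UX := ⊤) (UY := ⊤)
    le_top le_top (by simp)).mp hiso
  simp only [e] at h
  have h' : IsPushout fX.appTop fY.appTop (pullback.fst fX fY).appTop (pullback.snd fX fY).appTop := by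
    convert h using 1 <;> exact (e _ _).symm
  exact h'.of_iso (Scheme.ΓSpecIso (CommRingCat.of R)) (Iso.refl _) (Iso.refl _) (Iso.refl _)
    (by simp [scal]) (by simp [scal]) (by simp) (by simp)

/-- Functions on a product of affine schemes. -/
theorem isPushout_functions_affine {X Y : Scheme.{u}} [IsAffine X] [IsAffine Y] (fX : X ⟶ Spec (CommRingCat.of R))
    (fY : Y ⟶ Spec (CommRingCat.of R)) :
    IsPushout (scal fX) (scal fY) (pullback.fst fX fY).appTop (pullback.snd fX fY).appTop := by
  have e : ∀ {A B : Scheme.{u}} (h : A ⟶ B) (p : (⊤ : A.Opens) ≤ h ⁻¹ᵁ ⊤), h.appLE ⊤ ⊤ p = h.appTop :=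
    fun h _ => (Scheme.Hom.app_eq_appLE h (U := ⊤)).symm
  have hiso := isIso_pushoutSection_of_isAffineOpen
    (IsPullback.of_hasPullback fX fY) (US := ⊤) (UT := ⊤) (UX := ⊤) (UY := ⊤)
    le_top le_top (by simp) (isAffineOpen_top _) (isAffineOpen_top _) (isAffineOpen_top _)
  have h := (isIso_pushoutSection_iff (IsPullback.of_hasPullback fX fY) (US := ⊤) (UT := ⊤) (UX := ⊤) (UY := ⊤)
    le_top le_top (by simp)).mp hiso
  simp only [e] at h
  have h' : IsPushout fX.appTop fY.appTop (pullback.fst fX fY).appTop (pullback.snd fX fY).appTop := by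
    convert h using 1 <;> exact (e _ _).symm
  exact h'.of_iso (Scheme.ΓSpecIso (CommRingCat.of R)) (Iso.refl _) (Iso.refl _) (Iso.refl _)
    (by simp [scal]) (by simp [scal]) (by simp) (by simp)

section Dedekind

variable [IsDedekindDomain R] {X : Scheme.{u}} (f : X ⟶ Spec (CommRingCat.of R))

theorem flat_scal [Flat f] [QuasiCompact f] [QuasiSeparated f] : (scal f).hom.Flat :=
  S5381.result R X f

variable [Flat f]

/-- Restriction to an open. -/
noncomputable abbrev resTop (U : X.Opens) : Γ(X, ⊤) ⟶ Γ(X, U) := X.presheaf.map (homOfLE le_top).op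

theorem flat_scal_affine {U : X.Opens} (hU : IsAffineOpen U) : (scal f ≫ resTop U).hom.Flat := by
  have e : scal f ≫ resTop U = (Scheme.ΓSpecIso (CommRingCat.of R)).inv ≫ f.appLE ⊤ U le_top := by
    rw [scal, Category.assoc]
    rfl
  rw [e, CommRingCat.hom_comp]
  exact (RingHom.Flat.of_bijective
    (ConcreteCategory.bijective_of_isIso (Scheme.ΓSpecIso (CommRingCat.of R)).inv)).comp
    (f.flat_appLE (isAffineOpen_top _) hU le_top)

/-- A nonzero scalar acts injectively on the functions on any open. -/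
theorem eq_zero_of_scal_mul {d : R} (hd : d ≠ 0) {V : X.Opens} {t : Γ(X, V)}
    (h : resTop V (scal f d) * t = 0) : t = 0 := by
  refine TopCat.Sheaf.eq_of_locally_eq' X.sheaf (fun W : {W : X.affineOpens // W.1 ≤ V} => W.1.1) V
    (fun W => homOfLE W.2) ?_ t 0 fun W => ?_
  · intro x hx
    obtain ⟨W, hW, hxW, hWV⟩ := exists_isAffineOpen_mem_and_subset hx
    exact Opens.mem_iSup.mpr ⟨⟨⟨W, hW⟩, hWV⟩, hxW⟩
  rw [map_zero]
  have hflat := flat_scal_affine f W.1.2
  letI : Algebra R Γ(X, W.1.1) := (scal f ≫ resTop W.1.1).hom.toAlgebra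
  haveI : Module.Flat R Γ(X, W.1.1) := hflat
  have h1 := congrArg (X.presheaf.map (homOfLE W.2).op) h
  rw [map_mul, map_zero] at h1
  have h2 : d • (X.presheaf.map (homOfLE W.2).op t) = 0 := by
    rw [Algebra.smul_def, ← h1]
    congr 1
    show resTop W.1.1 (scal f d) = (resTop V ≫ X.presheaf.map (homOfLE W.2).op) (scal f d)
    rw [← Functor.map_comp]
    rfl
  exact Module.Flat.isSMulRegular_of_nonZeroDivisors (M := Γ(X, W.1.1))
    (mem_nonZeroDivisors_of_ne_zero hd) (h2.trans (smul_zero d).symm)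

/-- For a maximal ideal `P` and an element `d ≠ 0` of it, some `c ∈ R` and `(p_j)` in `P` witness invertibility. -/
theorem exists_inverse_data (P : Ideal R) (hP : P ≠ ⊥) :
    ∃ (d : R) (_ : d ≠ 0) (n : ℕ) (p c : Fin n → R), (∀ j, p j ∈ P) ∧ (∀ j, ∀ x ∈ P, d ∣ c j * x) ∧
      ∑ j, p j * c j = d := by
  obtain ⟨d, hdP, hd⟩ := Submodule.exists_mem_ne_zero_of_ne_bot hP
  obtain ⟨J, hJ⟩ := Ideal.dvd_iff_le.mpr ((Ideal.span_singleton_le_iff_mem P).mpr hdP)
  have h1 : d ∈ P * J := hJ ▸ Ideal.mem_span_singleton_self d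
  obtain ⟨n, p, hp, c, hc, hsum⟩ : ∃ (n : ℕ) (p : Fin n → R), (∀ j, p j ∈ P) ∧ ∃ c : Fin n → R,
      (∀ j, c j ∈ J) ∧ ∑ j, p j * c j = d := by
    refine Submodule.mul_induction_on h1 (fun a ha b hb => ⟨1, fun _ => a, fun _ => ha, fun _ => b, fun _ => hb,
      by simp⟩) ?_
    rintro x y ⟨n, p, hp, c, hc, hs⟩ ⟨m, p', hp', c', hc', hs'⟩
    refine ⟨n + m, Fin.append p p', fun j => ?_, Fin.append c c', fun j => ?_, ?_⟩
    · refine Fin.addCases (fun i => ?_) (fun i => ?_) j <;> simp [hp, hp']
    · refine Fin.addCases (fun i => ?_) (fun i => ?_) j <;> simp [hc, hc']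
    · simp [Fin.sum_univ_add, hs, hs']
  refine ⟨d, hd, n, p, c, hp, fun j x hx => ?_, hsum⟩
  have h2 : x * c j ∈ P * J := Submodule.mul_mem_mul hx (hc j)
  rw [← hJ, Ideal.mem_span_singleton, mul_comm] at h2
  exact h2

/-- A function vanishing on a closed fibre lies in the extension of the maximal ideal. -/
theorem mem_map_of_fibre_eq_zero (P : Ideal R) (hP : P ≠ ⊥) {s : Γ(X, ⊤)}
    (hs : (pullback.fst f (Spec.map (CommRingCat.ofHom (Ideal.Quotient.mk P)))).appTop s = 0) :
    s ∈ P.map (scal f).hom := by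
  classical
  set g := Spec.map (CommRingCat.ofHom (Ideal.Quotient.mk P)) with hg
  -- on an affine open
  have hloc : ∀ U : X.affineOpens, resTop U.1 s ∈ P.map (scal f ≫ resTop U.1).hom := by
    intro U
    haveI : IsAffine U.1.toScheme := U.2
    have hpo := isPushout_functions_affine (U.1.ι ≫ f) g
    let A := Γ(U.1.toScheme, ⊤)
    let I : Ideal A := P.map (scal (U.1.ι ≫ f)).hom
    let j : Γ(Spec (CommRingCat.of (R ⧸ P)), ⊤) ⟶ CommRingCat.of (A ⧸ I) :=
      (Scheme.ΓSpecIso (CommRingCat.of (R ⧸ P))).hom ≫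
        CommRingCat.ofHom (Ideal.quotientMap I (scal (U.1.ι ≫ f)).hom Ideal.le_comap_map)
    have hw : scal (U.1.ι ≫ f) ≫ CommRingCat.ofHom (Ideal.Quotient.mk I) = scal g ≫ j := by
      refine CommRingCat.hom_ext (RingHom.ext fun r => ?_)
      have h1 : scal g ≫ (Scheme.ΓSpecIso (CommRingCat.of (R ⧸ P))).hom = CommRingCat.ofHom (Ideal.Quotient.mk P) := by
        rw [scal, Category.assoc, hg, Scheme.ΓSpecIso_naturality, Iso.inv_hom_id_assoc]
      show Ideal.Quotient.mk I (scal (U.1.ι ≫ f) r) =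
        ((scal g ≫ (Scheme.ΓSpecIso (CommRingCat.of (R ⧸ P))).hom) ≫
          CommRingCat.ofHom (Ideal.quotientMap I (scal (U.1.ι ≫ f)).hom Ideal.le_comap_map)) r
      rw [h1]
      rfl
    let a : A := U.1.ι.appTop s
    have ha : (pullback.fst (U.1.ι ≫ f) g).appTop a = 0 := by
      let l : pullback (U.1.ι ≫ f) g ⟶ pullback f g :=
        pullback.map _ _ _ _ U.1.ι (𝟙 _) (𝟙 _) (by simp) (by simp)
      have h1 : pullback.fst (U.1.ι ≫ f) g ≫ U.1.ι = l ≫ pullback.fst f g := (pullback.lift_fst _ _ _).symm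
      show (U.1.ι.appTop ≫ (pullback.fst (U.1.ι ≫ f) g).appTop) s = 0
      rw [← Scheme.Hom.comp_appTop, h1, Scheme.Hom.comp_appTop, ConcreteCategory.comp_apply, hs, map_zero]
    have ha' : a ∈ I := by
      rw [← Ideal.Quotient.eq_zero_iff_mem]
      have h1 := ConcreteCategory.congr_hom (hpo.inl_desc (CommRingCat.ofHom (Ideal.Quotient.mk I)) j hw) a
      rw [ConcreteCategory.comp_apply, ha, map_zero] at h1
      exact h1.symm
    have h2 := Ideal.mem_map_of_mem U.1.topIso.hom.hom ha'
    rw [Ideal.map_map, ← CommRingCat.hom_comp] at h2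
    have e1 : U.1.ι.appTop ≫ U.1.topIso.hom = resTop U.1 := by
      rw [Scheme.Opens.ι_appTop, Scheme.Opens.topIso_hom, ← Functor.map_comp]
      rfl
    have e2 : scal (U.1.ι ≫ f) ≫ U.1.topIso.hom = scal f ≫ resTop U.1 := by
      rw [← scal_comp, Category.assoc, e1]
    have e3 : U.1.topIso.hom a = resTop U.1 s := ConcreteCategory.congr_hom e1 s
    rw [e2, e3] at h2
    exact h2
  obtain ⟨d, hd, n, p, c, hp, hdvd, hsum⟩ := exists_inverse_data P hP
  -- divide by `d`
  have hex : ∀ j, ∃ e : Γ(X, ⊤), scal f d * e = scal f (c j) * s := by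
    intro j
    have hl : ∀ U : X.affineOpens, ∃ e : Γ(X, U.1), resTop U.1 (scal f d) * e = resTop U.1 (scal f (c j) * s) := by
      intro U
      let σ := (scal f ≫ resTop U.1).hom
      rw [map_mul]
      have h2 : σ (c j) * resTop U.1 s ∈ Ideal.span {σ d} := by
        refine (?_ : P.map σ ≤ (Ideal.span {σ d}).colon {σ (c j)}) (hloc U) |> Submodule.mem_colon_singleton.mp
          |> fun h => by rwa [smul_eq_mul, mul_comm] at h
        refine Ideal.map_le_iff_le_comap.mpr fun x hx => ?_
        rw [Ideal.mem_comap, Submodule.mem_colon_singleton, smul_eq_mul, mul_comm, Ideal.mem_span_singleton, ← map_mul]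
        exact map_dvd σ (hdvd j x hx)
      obtain ⟨e, he⟩ := Ideal.mem_span_singleton.mp h2
      exact ⟨e, he.symm⟩
    choose e he using hl
    have hcompat : TopCat.Presheaf.IsCompatible X.presheaf (fun U : X.affineOpens => U.1) e := by
      intro U V
      rw [← sub_eq_zero]
      refine eq_zero_of_scal_mul f hd ?_
      have h : ∀ (W : X.affineOpens) (hW : U.1 ⊓ V.1 ⟶ W.1),
          resTop (U.1 ⊓ V.1) (scal f d) * X.presheaf.map hW.op (e W) = resTop (U.1 ⊓ V.1) (scal f (c j) * s) := by
        intro W hW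
        have h1 := congrArg (X.presheaf.map hW.op) (he W)
        rw [map_mul] at h1
        have er : resTop W.1 ≫ X.presheaf.map hW.op = resTop (U.1 ⊓ V.1) := by rw [← Functor.map_comp]; rfl
        have e4 := fun z => ConcreteCategory.congr_hom er z
        simp only [ConcreteCategory.comp_apply] at e4
        rw [e4, e4] at h1
        exact h1
      rw [mul_sub, sub_eq_zero]
      exact (h U _).trans (h V _).symm
    obtain ⟨E, hE, -⟩ := TopCat.Sheaf.existsUnique_gluing' X.sheaf (fun U : X.affineOpens => U.1) ⊤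
      (fun U => homOfLE le_top) (le_of_eq (iSup_affineOpens_eq_top X).symm) e hcompat
    refine ⟨(show Γ(X, ⊤) from E), ?_⟩
    refine TopCat.Sheaf.eq_of_locally_eq' X.sheaf (fun U : X.affineOpens => U.1) ⊤
      (fun U => homOfLE le_top) (le_of_eq (iSup_affineOpens_eq_top X).symm) _ _ fun U => ?_
    show resTop U.1 (scal f d * (show Γ(X, ⊤) from E)) = resTop U.1 (scal f (c j) * s)
    rw [map_mul, ← he U, ← hE U]
    rfl
  choose e he using hex
  have hmain : s = ∑ j, scal f (p j) * e j := by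
    rw [← sub_eq_zero]
    refine eq_zero_of_scal_mul f hd (V := ⊤) ?_
    have e5 : resTop (X := X) ⊤ (scal f d) = scal f d := by
      show X.presheaf.map (𝟙 _) _ = _
      rw [CategoryTheory.Functor.map_id]; rfl
    rw [e5, mul_sub, sub_eq_zero, Finset.mul_sum]
    calc scal f d * s = ∑ j, scal f (p j * c j) * s := by rw [← Finset.sum_mul, ← map_sum, hsum]
      _ = _ := Finset.sum_congr rfl fun j _ => by
        rw [map_mul, mul_assoc, ← he j]; ring
  rw [hmain]
  exact Ideal.sum_mem _ fun j _ => Ideal.mul_mem_right _ _ (Ideal.mem_map_of_mem _ (hp j))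

end Dedekind

end Groth.Agent.GrpHull
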