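import Groth.Agent.GrpHull.Hull
import Groth.Agent.GrpHull.Kunneth
import Mathlib.CategoryTheory.Monoidal.Cartesian.Over
import Mathlib.CategoryTheory.Monoidal.Cartesian.Mon

/-!
# The fibres of a group over a Dedekind domain over those of its affine hull
-/

universe u

open CategoryTheory Limits AlgebraicGeometry MonoidalCategory CartesianMonoidalCategory MonObj GrpObj
open scoped CategoryTheory.Obj

set_option autoImplicit false
set_option linter.all false
set_option backward.isDefEq.respectTransparency false
set_option backward.isDefEq.respectTransparency.types false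

namespace Groth.Agent.GrpHull

open Groth.Agent.GrpSchLib.Kunneth

variable {R : Type u} [CommRing R] (G : Over (Spec (CommRingCat.of R)))

/-- The affine hull as an object over the base. -/
noncomputable abbrev hullObj : Over (Spec (CommRingCat.of R)) := Over.mk (Spec.map (scal G.hom))

/-- The morphism to the affine hull. -/
noncomputable def toHull : G ⟶ hullObj G := Over.homMk G.left.toSpecΓ (by
  show G.left.toSpecΓ ≫ Spec.map (scal G.hom) = G.hom
  rw [scal, Spec.map_comp, ← Category.assoc, ← Scheme.toSpecΓ_naturality, Category.assoc,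
    toSpecΓ_SpecMap_ΓSpecIso_inv]
  exact Category.comp_id _)

theorem toHull_left : (toHull G).left = G.left.toSpecΓ := rfl

theorem isIso_toHull_appTop : IsIso (toHull G).left.appTop := by
  rw [toHull_left, Scheme.toSpecΓ_appTop]
  infer_instance

variable (K' : Type u) [Field K'] [Algebra R K']

/-- The base change to the fibre. -/
noncomputable abbrev gFib : Spec (CommRingCat.of K') ⟶ Spec (CommRingCat.of R) :=
  Spec.map (CommRingCat.ofHom (algebraMap R K'))

/-- The morphism between the fibres. -/
noncomputable abbrev fibHull : (Over.pullback (gFib K')).obj G ⟶ (Over.pullback (gFib K')).obj (hullObj G) :=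
  (Over.pullback (gFib K')).map (toHull G)

theorem fibHull_fst : (fibHull G K').left ≫ pullback.fst _ _ = pullback.fst G.hom (gFib K') ≫ (toHull G).left :=
  pullback.lift_fst _ _ _

instance isAffine_fib_hull : IsAffine ((Over.pullback (gFib (R := R) K')).obj (hullObj G)).left :=
  inferInstanceAs (IsAffine (pullback (Spec.map (scal G.hom)) (gFib K')))

variable {G K'}

theorem map_left_fst {A B : Over (Spec (CommRingCat.of R))} (a : A ⟶ B) :
    ((Over.pullback (gFib K')).map a).left ≫ pullback.fst B.hom (gFib K') = pullback.fst A.hom (gFib K') ≫ a.left :=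
  pullback.lift_fst _ _ _

variable [QuasiCompact G.hom] [QuasiSeparated G.hom] [Flat G.hom] [GrpObj G] [IsDedekindDomain R]

variable (G K')

omit [QuasiCompact G.hom] [QuasiSeparated G.hom] [Flat G.hom] [GrpObj G] [IsDedekindDomain R] in
/-- Functions of the hull pulled back along the base change of a morphism. -/
theorem map_appTop_fst {A : Over (Spec (CommRingCat.of R))} (a : A ⟶ hullObj G) (z : Γ((hullObj G).left, ⊤)) :
    ((Over.pullback (gFib K')).map a).left.appTop ((pullback.fst (Spec.map (scal G.hom)) (gFib K')).appTop z) =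
      (pullback.fst A.hom (gFib K')).appTop (a.left.appTop z) := by
  have e := congrArg (fun m => (Scheme.Hom.appTop m) z) (map_left_fst (K' := K') a)
  simp only [Scheme.Hom.comp_appTop, ConcreteCategory.comp_apply] at e
  exact e

omit [QuasiCompact G.hom] [QuasiSeparated G.hom] [Flat G.hom] [GrpObj G] [IsDedekindDomain R] in
theorem exists_hull_fn {A : Over (Spec (CommRingCat.of R))} (a : A ⟶ G) (b : Γ(G.left, ⊤)) :
    ∃ z, (pullback.fst A.hom (gFib K')).appTop (a.left.appTop b) =
      ev ((Over.pullback (gFib K')).map a ≫ fibHull G K') z := by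
  haveI := isIso_toHull_appTop G
  obtain ⟨c, rfl⟩ := (ConcreteCategory.bijective_of_isIso (toHull G).left.appTop).2 b
  refine ⟨(pullback.fst (Spec.map (scal G.hom)) (gFib K')).appTop c, ?_⟩
  rw [ev_apply, fibHull, ← Functor.map_comp, map_appTop_fst]
  rw [Over.comp_left, Scheme.Hom.comp_appTop, ConcreteCategory.comp_apply]

omit [QuasiCompact G.hom] [QuasiSeparated G.hom] [Flat G.hom] [GrpObj G] [IsDedekindDomain R] in
theorem const_mem {A B : Over (Spec (CommRingCat.of K'))} (h : A ⟶ B) (c : Γ(Spec (CommRingCat.of K'), ⊤)) :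
    ev h (B.hom.appTop c) = A.hom.appTop c := by
  rw [ev_apply, ← ConcreteCategory.comp_apply, ← Scheme.Hom.comp_appTop, Over.w h]

theorem fib_mul (x : Fn ((Over.pullback (gFib K')).obj (hullObj G))) :
    ev (μ[(Over.pullback (gFib K')).obj G] ≫ fibHull G K') x ∈
      Set.range (ev (fibHull G K' ⊗ₘ fibHull G K')) := by
  let F := Over.pullback (gFib (R := R) K')
  let r := fibHull G K'
  let δ : F.obj (G ⊗ G) ⟶ F.obj G ⊗ F.obj G := lift (F.map (fst G G)) (F.map (snd G G))
  haveI : IsIso δ := inferInstanceAs (IsIso (CartesianMonoidalCategory.prodComparison F G G))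
  have hδ : δ ≫ μ[F.obj G] ≫ r = F.map (μ[G] ≫ toHull G) := by
    rw [← Category.assoc, ← Hom.mul_def, ← Functor.map_mul, F.map_comp]
    congr 2
    rw [Hom.mul_def, lift_fst_snd, Category.id_comp]
  have hδi : Function.Injective (ev δ) := fun a b h => by
    have := congrArg (ev (inv δ)) h
    rwa [ev_ev, ev_ev, IsIso.inv_hom_id, ev_id, ev_id] at this
  let S := (ev (r ⊗ₘ r)).range.toSubring.comap (ev (μ[F.obj G] ≫ r)).toRingHom
  refine mem_of_isPushout (isPushout_functions_affine (Spec.map (scal G.hom)) (gFib (R := R) K')) S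
    (fun a => ?_) (fun c => ?_) x
  · let T : Subring Γ((G ⊗ G).left, ⊤) :=
      ((ev (δ ≫ (r ⊗ₘ r))).range.toSubring).comap (pullback.fst (G ⊗ G).hom (gFib (R := R) K')).appTop.hom
    have h1 : ∀ b, (fst G G).left.appTop b ∈ T := by
      intro b
      obtain ⟨z, hz⟩ := exists_hull_fn G K' (fst G G) b
      refine ⟨ev (fst (F.obj (hullObj G)) (F.obj (hullObj G))) z, ?_⟩
      refine Eq.trans ?_ hz.symm
      show ev (δ ≫ (r ⊗ₘ r)) (ev _ z) = _
      rw [ev_ev, Category.assoc, tensorHom_fst, lift_fst_assoc]
    have h2 : ∀ b, (snd G G).left.appTop b ∈ T := by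
      intro b
      obtain ⟨z, hz⟩ := exists_hull_fn G K' (snd G G) b
      refine ⟨ev (snd (F.obj (hullObj G)) (F.obj (hullObj G))) z, ?_⟩
      refine Eq.trans ?_ hz.symm
      show ev (δ ≫ (r ⊗ₘ r)) (ev _ z) = _
      rw [ev_ev, Category.assoc, tensorHom_snd, lift_snd_assoc]
    obtain ⟨w, hw⟩ := mem_of_isPushout (isPushout_functions G.hom G.hom (flat_scal G.hom)) T h1 h2
      ((μ[G] ≫ toHull G).left.appTop a)
    refine ⟨w, hδi ?_⟩
    show ev δ (ev (r ⊗ₘ r) w) = ev δ (ev (μ[F.obj G] ≫ r) _)
    rw [ev_ev, ev_ev, hδ, ev_apply (F.map _), map_appTop_fst]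
    exact hw
  · refine ⟨(F.obj (hullObj G) ⊗ F.obj (hullObj G)).hom.appTop c, ?_⟩
    exact (const_mem K' _ c).trans (const_mem K' _ c).symm

theorem fib_inv (x : Fn ((Over.pullback (gFib K')).obj (hullObj G))) :
    ev (ι[(Over.pullback (gFib K')).obj G] ≫ fibHull G K') x ∈ Set.range (ev (fibHull G K')) := by
  let F := Over.pullback (gFib (R := R) K')
  let r := fibHull G K'
  let S := (ev r).range.toSubring.comap (ev (ι[F.obj G] ≫ r)).toRingHom
  refine mem_of_isPushout (isPushout_functions_affine (Spec.map (scal G.hom)) (gFib (R := R) K')) S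
    (fun a => ?_) (fun c => ?_) x
  · haveI := isIso_toHull_appTop G
    obtain ⟨a', ha'⟩ := (ConcreteCategory.bijective_of_isIso (toHull G).left.appTop).2 ((ι[G] ≫ toHull G).left.appTop a)
    refine ⟨(pullback.fst (Spec.map (scal G.hom)) (gFib K')).appTop a', ?_⟩
    show ev r _ = ev (ι[F.obj G] ≫ r) _
    have e1 : ι[F.obj G] ≫ r = F.map (ι[G] ≫ toHull G) := by rw [F.map_comp]; rfl
    rw [e1, ev_apply, ev_apply, map_appTop_fst, map_appTop_fst, ha']
  · refine ⟨(F.obj (hullObj G)).hom.appTop c, ?_⟩
    exact (const_mem K' _ c).trans (const_mem K' _ c).symm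

/-- If functions on the fibre of the hull inject, the fibre maps faithfully flatly onto it. -/
theorem fib_flat_surjective (hinj : Function.Injective (fibHull G K').left.appTop) :
    Flat (fibHull G K').left ∧ Surjective (fibHull G K').left := by
  haveI : QuasiCompact ((Over.pullback (gFib (R := R) K')).obj G).hom :=
    MorphismProperty.pullback_snd (P := @QuasiCompact) _ _ ‹_›
  exact flat_surjective_of_subalgebra (fibHull G K') hinj (fib_mul G K') (fib_inv G K')

omit [GrpObj G] in
/-- On the generic fibre, or any flat one, functions are those of the hull. -/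
theorem fib_bijective_of_flat (h : (algebraMap R K').Flat) :
    Function.Bijective (fibHull G K').left.appTop := by
  haveI := isIso_toHull_appTop G
  haveI : Flat (gFib (R := R) K') := (HasRingHomProperty.Spec_iff (P := @Flat)).mpr h
  have hX := isPushout_functions_affine (Spec.map (scal G.hom)) (gFib (R := R) K')
  have hG := isPushout_functions G.hom (gFib (R := R) K') (flat_scal G.hom)
  have hX' : IsPushout (scal G.hom) (scal (gFib (R := R) K'))
      (inv (toHull G).left.appTop ≫ (pullback.fst (Spec.map (scal G.hom)) (gFib K')).appTop)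
      (pullback.snd (Spec.map (scal G.hom)) (gFib K')).appTop := by
    refine hX.of_iso (Iso.refl _) (asIso (toHull G).left.appTop) (Iso.refl _) (Iso.refl _) ?_ (by simp) (by simp) (by simp)
    show scal (hullObj G).hom ≫ (toHull G).left.appTop = 𝟙 _ ≫ scal G.hom
    rw [scal_comp, Over.w (toHull G), Category.id_comp]
  let e := hX'.isoIsPushout _ _ hG
  have he : e.hom = (fibHull G K').left.appTop := by
    refine hX'.hom_ext ?_ ?_
    · rw [IsPushout.inl_isoIsPushout_hom, Category.assoc, ← Scheme.Hom.comp_appTop]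
      erw [fibHull_fst]
      rw [Scheme.Hom.comp_appTop, IsIso.inv_hom_id_assoc]
    · rw [IsPushout.inr_isoIsPushout_hom, ← Scheme.Hom.comp_appTop]
      exact congrArg Scheme.Hom.appTop (Over.w (fibHull G K')).symm
  rw [← he]
  exact ConcreteCategory.bijective_of_isIso e.hom

omit [GrpObj G] in
/-- On a closed fibre, functions of the hull inject. -/
theorem fib_injective_of_closed (P : Ideal R) [P.IsMaximal] (hP : P ≠ ⊥) :
    letI := Ideal.Quotient.field P
    Function.Injective (fibHull G (R ⧸ P)).left.appTop := by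
  letI := Ideal.Quotient.field P
  haveI := isIso_toHull_appTop G
  set g := gFib (R := R) (R ⧸ P)
  have hX := isPushout_functions_affine (Spec.map (scal G.hom)) g
  let ψ := (pullback.fst (Spec.map (scal G.hom)) g).appTop
  have hsurj : Function.Surjective ψ := by
    intro z
    refine mem_of_isPushout hX ψ.hom.range (fun a => ⟨a, rfl⟩) (fun c => ?_) z
    obtain ⟨r, hr⟩ := Ideal.Quotient.mk_surjective ((Scheme.ΓSpecIso (CommRingCat.of (R ⧸ P))).hom c)
    refine ⟨scal (Spec.map (scal G.hom)) r, ?_⟩
    show (scal (Spec.map (scal G.hom)) ≫ ψ) r = _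
    rw [hX.w, ConcreteCategory.comp_apply]
    congr 1
    apply (ConcreteCategory.bijective_of_isIso (Scheme.ΓSpecIso (CommRingCat.of (R ⧸ P))).hom).1
    rw [← hr]
    show (scal g ≫ (Scheme.ΓSpecIso (CommRingCat.of (R ⧸ P))).hom) r = _
    rw [scal, Category.assoc, Scheme.ΓSpecIso_naturality, Iso.inv_hom_id_assoc]
    rfl
  rw [injective_iff_map_eq_zero]
  intro z hz
  obtain ⟨a, rfl⟩ := hsurj z
  have h1 : (pullback.fst G.hom g).appTop ((toHull G).left.appTop a) = 0 := by
    rw [← ConcreteCategory.comp_apply, ← Scheme.Hom.comp_appTop, ← fibHull_fst, Scheme.Hom.comp_appTop,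
      ConcreteCategory.comp_apply]
    exact hz
  have h2 := mem_map_of_fibre_eq_zero G.hom P hP h1
  have h3 := Ideal.mem_map_of_mem (inv (toHull G).left.appTop ≫ ψ).hom h2
  rw [Ideal.map_map, ← CommRingCat.hom_comp, ← ConcreteCategory.hom_ofHom (C := CommRingCat)
    (inv (toHull G).left.appTop ≫ ψ).hom] at h3
  have e : scal G.hom ≫ inv (toHull G).left.appTop ≫ ψ = scal g ≫ (pullback.snd (Spec.map (scal G.hom)) g).appTop := by
    rw [← hX.w, ← Category.assoc]
    congr 1
    rw [IsIso.comp_inv_eq, scal_comp]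
    exact (congrArg scal (Over.w (toHull G))).symm
  have h4 : Ideal.map (scal G.hom ≫ inv (toHull G).left.appTop ≫ ψ).hom P = ⊥ := by
    rw [Ideal.map_eq_bot_iff_le_ker]
    intro p hp
    rw [RingHom.mem_ker]
    show (scal G.hom ≫ inv (toHull G).left.appTop ≫ ψ) p = 0
    have e2 : scal g = CommRingCat.ofHom (Ideal.Quotient.mk P) ≫ (Scheme.ΓSpecIso (CommRingCat.of (R ⧸ P))).inv := by
      rw [scal]
      exact (Scheme.ΓSpecIso_inv_naturality _).symm
    rw [e, ConcreteCategory.comp_apply, e2, ConcreteCategory.comp_apply]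
    have e3 : (CommRingCat.ofHom (Ideal.Quotient.mk P)) p = 0 := Ideal.Quotient.eq_zero_iff_mem.mpr hp
    rw [e3, map_zero]
    exact map_zero _
  have h5 : (inv (toHull G).left.appTop ≫ ψ) ((toHull G).left.appTop a) ∈
      Ideal.map (scal G.hom ≫ inv (toHull G).left.appTop ≫ ψ).hom P := h3
  rw [h4, Ideal.mem_bot, ← ConcreteCategory.comp_apply, IsIso.hom_inv_id_assoc] at h5
  exact h5

end Groth.Agent.GrpHull
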