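import Groth.Agent.GrpHull.AffineGeneric
import Groth.Agent.GrpSchLib.KernelGrp
import Groth.Agent.GrpSchLib.Shear
import Groth.Agent.AlgSpLib.Descent2
import Groth.Agent.S4091
import Mathlib.AlgebraicGeometry.Morphisms.Etale

/-!
# The affine hull of a flat group of finite type over a Dedekind domain
-/

universe u

open CategoryTheory Limits AlgebraicGeometry MonoidalCategory CartesianMonoidalCategory MonObj GrpObj

set_option autoImplicit false
set_option linter.all false
set_option backward.isDefEq.respectTransparency false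
set_option backward.isDefEq.respectTransparency.types false

namespace Groth.Agent.GrpHull

/-- Precomposition with a morphism bijective on functions, into affine schemes. -/
theorem exists_unique_factor {A B X : Scheme.{u}} [IsAffine X] (u : A ⟶ B) [IsIso u.appTop] (g : A ⟶ X) :
    ∃ g' : B ⟶ X, u ≫ g' = g := by
  refine ⟨B.toSpecΓ ≫ Spec.map (g.appTop ≫ inv u.appTop) ≫ X.isoSpec.inv, ?_⟩
  rw [← Category.assoc, Scheme.toSpecΓ_naturality, Category.assoc, ← Spec.map_comp_assoc, Category.assoc,
    IsIso.inv_hom_id, Category.comp_id, ← Scheme.toSpecΓ_naturality_assoc]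
  rw [← Scheme.isoSpec_hom, Iso.hom_inv_id, Category.comp_id]

theorem cancel_affine {A B X : Scheme.{u}} [IsAffine X] (u : A ⟶ B) [IsIso u.appTop] {g g' : B ⟶ X}
    (h : u ≫ g = u ≫ g') : g = g' := by
  refine ext_of_isAffine ?_
  have := congrArg Scheme.Hom.appTop h
  rw [Scheme.Hom.comp_appTop, Scheme.Hom.comp_appTop] at this
  exact (cancel_mono u.appTop).mp this

variable {R : Type u} [CommRing R]

theorem cancel_appTop {T T' X : Over (Spec (CommRingCat.of R))} [IsAffine X.left] {u : T ⟶ T'}
    [h : IsIso u.left.appTop] {g g' : T' ⟶ X} (e : u ≫ g = u ≫ g') : g = g' :=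
  Over.OverMorphism.ext (cancel_affine u.left (congrArg CommaMorphism.left e))

theorem exists_factor {T T' X : Over (Spec (CommRingCat.of R))} [IsAffine X.left] (u : T ⟶ T')
    [IsIso u.left.appTop] (g : T ⟶ X) : ∃ g' : T' ⟶ X, u ≫ g' = g := by
  obtain ⟨m, hm⟩ := exists_unique_factor u.left g.left
  refine ⟨Over.homMk m ?_, Over.OverMorphism.ext hm⟩
  show m ≫ X.hom = T'.hom
  refine cancel_affine u.left ?_
  rw [← Category.assoc, hm, Over.w g, Over.w u]

/-- Functions on a product only depend on functions on the factors. -/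
theorem isIso_appTop_tensor {A A' C C' : Over (Spec (CommRingCat.of R))} [QuasiCompact A.hom] [QuasiSeparated A.hom]
    [QuasiCompact C.hom] [QuasiSeparated C.hom] [Flat C.hom] [IsAffine A'.left] [IsAffine C'.left]
    (hA : (scal A.hom).hom.Flat) (f : A ⟶ A') (h : C ⟶ C') [IsIso f.left.appTop] [IsIso h.left.appTop] :
    IsIso (f ⊗ₘ h).left.appTop := by
  have hX := isPushout_functions_affine A'.hom C'.hom
  have hG := isPushout_functions A.hom C.hom hA
  have hX' : IsPushout (scal A.hom) (scal C.hom)
      (inv f.left.appTop ≫ (pullback.fst A'.hom C'.hom).appTop)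
      (inv h.left.appTop ≫ (pullback.snd A'.hom C'.hom).appTop) := by
    refine hX.of_iso (Iso.refl _) (asIso f.left.appTop) (asIso h.left.appTop) (Iso.refl _) ?_ ?_ (by simp) (by simp)
    · show scal A'.hom ≫ f.left.appTop = 𝟙 _ ≫ scal A.hom
      rw [scal_comp, Over.w f, Category.id_comp]
    · show scal C'.hom ≫ h.left.appTop = 𝟙 _ ≫ scal C.hom
      rw [scal_comp, Over.w h, Category.id_comp]
  let e := hX'.isoIsPushout _ _ hG
  have he : e.hom = (f ⊗ₘ h).left.appTop := by
    refine hX'.hom_ext ?_ ?_
    · rw [IsPushout.inl_isoIsPushout_hom, Category.assoc, ← Scheme.Hom.comp_appTop]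
      have e1 : (f ⊗ₘ h).left ≫ pullback.fst A'.hom C'.hom = pullback.fst A.hom C.hom ≫ f.left :=
        congrArg CommaMorphism.left (tensorHom_fst f h)
      erw [e1]
      rw [Scheme.Hom.comp_appTop, IsIso.inv_hom_id_assoc]
    · rw [IsPushout.inr_isoIsPushout_hom, Category.assoc, ← Scheme.Hom.comp_appTop]
      have e1 : (f ⊗ₘ h).left ≫ pullback.snd A'.hom C'.hom = pullback.snd A.hom C.hom ≫ h.left :=
        congrArg CommaMorphism.left (tensorHom_snd f h)
      erw [e1]
      rw [Scheme.Hom.comp_appTop, IsIso.inv_hom_id_assoc]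
  rw [← he]
  infer_instance

variable [IsDedekindDomain R] (G : Over (Spec (CommRingCat.of R))) [GrpObj G] [Flat G.hom] [QuasiCompact G.hom]
  [QuasiSeparated G.hom]

/-- The affine hull of a flat group over a Dedekind domain is a group. -/
theorem exists_grp_hull : ∃ _ : GrpObj (hullObj G), IsMonHom (toHull G) := by
  let X := hullObj G
  let r : G ⟶ X := toHull G
  haveI : IsAffine X.left := isAffine_Spec _
  haveI : IsAffine (X ⊗ X).left := inferInstanceAs (IsAffine (pullback X.hom X.hom))
  haveI : IsAffine ((X ⊗ X) ⊗ X).left := inferInstanceAs (IsAffine (pullback (X ⊗ X).hom X.hom))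
  haveI : IsIso r.left.appTop := isIso_toHull_appTop G
  haveI hrr : IsIso (r ⊗ₘ r).left.appTop := isIso_appTop_tensor (flat_scal G.hom) r r
  haveI : QuasiCompact (G ⊗ G).hom := inferInstanceAs (QuasiCompact (pullback.fst G.hom G.hom ≫ G.hom))
  haveI : QuasiSeparated (G ⊗ G).hom := inferInstanceAs (QuasiSeparated (pullback.fst G.hom G.hom ≫ G.hom))
  haveI : Flat (G ⊗ G).hom := inferInstanceAs (Flat (pullback.fst G.hom G.hom ≫ G.hom))
  haveI hrrr : IsIso ((r ⊗ₘ r) ⊗ₘ r).left.appTop := isIso_appTop_tensor (flat_scal (G ⊗ G).hom) (r ⊗ₘ r) r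
  obtain ⟨m, hm⟩ := exists_factor (r ⊗ₘ r) (μ[G] ≫ r)
  obtain ⟨i, hi⟩ := exists_factor r (ι[G] ≫ r)
  have hmul : ∀ {T : Over (Spec (CommRingCat.of R))} (a b : T ⟶ G),
      lift (a ≫ r) (b ≫ r) ≫ m = (a * b) ≫ r := by
    intro T a b
    rw [← lift_map, Category.assoc, hm, ← Category.assoc, ← Hom.mul_def]
  let M : MonObj X :=
    { one := η[G] ≫ r
      mul := m
      one_mul := by
        rw [← cancel_epi (λ_ X).inv]
        refine cancel_appTop (u := r) ?_
        simp only [Iso.inv_hom_id, Category.comp_id]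
        have e : r ≫ (λ_ X).inv ≫ (η[G] ≫ r) ▷ X = lift ((toUnit G ≫ η[G]) ≫ r) ((𝟙 G) ≫ r) := by
          apply CartesianMonoidalCategory.hom_ext <;> simp
        rw [← Category.assoc (λ_ X).inv, ← Category.assoc, e, hmul, show toUnit G ≫ η[G] = 1 from rfl,
          _root_.one_mul, Category.id_comp]
      mul_one := by
        rw [← cancel_epi (ρ_ X).inv]
        refine cancel_appTop (u := r) ?_
        simp only [Iso.inv_hom_id, Category.comp_id]
        have e : r ≫ (ρ_ X).inv ≫ X ◁ (η[G] ≫ r) = lift ((𝟙 G) ≫ r) ((toUnit G ≫ η[G]) ≫ r) := by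
          apply CartesianMonoidalCategory.hom_ext <;> simp
        rw [← Category.assoc (ρ_ X).inv, ← Category.assoc, e, hmul, show toUnit G ≫ η[G] = 1 from rfl,
          _root_.mul_one, Category.id_comp]
      mul_assoc := by
        refine cancel_appTop (u := (r ⊗ₘ r) ⊗ₘ r) ?_
        let p₁ : (G ⊗ G) ⊗ G ⟶ G := fst (G ⊗ G) G ≫ fst G G
        let p₂ : (G ⊗ G) ⊗ G ⟶ G := fst (G ⊗ G) G ≫ snd G G
        let p₃ : (G ⊗ G) ⊗ G ⟶ G := snd (G ⊗ G) G
        have e₁ : ((r ⊗ₘ r) ⊗ₘ r) ≫ m ▷ X = lift ((p₁ * p₂) ≫ r) (p₃ ≫ r) := by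
          apply CartesianMonoidalCategory.hom_ext
          · simp only [Category.assoc, whiskerRight_fst, lift_fst, tensorHom_fst_assoc, hm]
            rw [← Category.assoc, Hom.mul_def]
            simp [p₁, p₂, ← comp_lift]
          · simp [p₃]
        have e₂ : ((r ⊗ₘ r) ⊗ₘ r) ≫ (α_ X X X).hom ≫ X ◁ m = lift (p₁ ≫ r) ((p₂ * p₃) ≫ r) := by
          apply CartesianMonoidalCategory.hom_ext
          · simp [p₁]
          · simp only [Category.assoc, whiskerLeft_snd, lift_snd]
            rw [← hmul, ← Category.assoc, ← Category.assoc]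
            congr 1
            apply CartesianMonoidalCategory.hom_ext <;> simp [p₂, p₃]
        rw [← Category.assoc, e₁, hmul, ← Category.assoc (α_ X X X).hom, ← Category.assoc, e₂, hmul,
          _root_.mul_assoc] }
  have hμX : μ[X] = m := rfl
  have hηX : η[X] = η[G] ≫ r := rfl
  let Gr : GrpObj X :=
    { inv := i
      left_inv := by
        refine cancel_appTop (u := r) ?_
        show r ≫ lift i (𝟙 X) ≫ m = r ≫ toUnit X ≫ η[G] ≫ r
        rw [← Category.assoc, comp_lift, Category.comp_id, hi]
        have := hmul ι[G] (𝟙 G)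
        rw [Category.id_comp] at this
        rw [this, ← Category.assoc r, comp_toUnit, ← Category.assoc, Hom.mul_def, GrpObj.left_inv]
      right_inv := by
        refine cancel_appTop (u := r) ?_
        show r ≫ lift (𝟙 X) i ≫ m = r ≫ toUnit X ≫ η[G] ≫ r
        rw [← Category.assoc, comp_lift, Category.comp_id, hi]
        have := hmul (𝟙 G) ι[G]
        rw [Category.id_comp] at this
        rw [this, ← Category.assoc r, comp_toUnit, ← Category.assoc, Hom.mul_def, GrpObj.right_inv] }
  exact ⟨Gr, ⟨rfl, by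
    show μ[G] ≫ r = (r ⊗ₘ r) ≫ m
    exact hm.symm⟩⟩

section FiniteType

variable [LocallyOfFiniteType G.hom]

/-- The affine hull of a flat group of finite type is noetherian. -/
theorem isLocallyNoetherian_hull : IsLocallyNoetherian (hullObj G).left := by
  classical
  haveI : CompactSpace G.left := (quasiCompact_iff_compactSpace G.hom).mp inferInstance
  let 𝒰 := G.left.affineCover.finiteSubcover
  let C := ∐ 𝒰.X
  haveI : ∀ i, IsAffine (𝒰.X i) := fun i => inferInstanceAs (IsAffine (G.left.affineCover.X _))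
  haveI : IsAffine C := inferInstance
  let π : Spec Γ(C, ⊤) ⟶ G.left := C.isoSpec.inv ≫ Sigma.desc 𝒰.f
  haveI := GrpSchLib.ImageFlat.surjective_sigmaDesc 𝒰
  haveI := GrpSchLib.ImageFlat.flat_sigmaDesc 𝒰
  haveI : LocallyOfFiniteType (Sigma.desc 𝒰.f) := IsZariskiLocalAtSource.sigmaDesc fun i => inferInstance
  haveI : Flat π := inferInstance
  haveI : Surjective π := inferInstance
  haveI : LocallyOfFiniteType π := inferInstance
  obtain ⟨φ, hφ⟩ : ∃ φ : Γ(G.left, ⊤) ⟶ Γ(C, ⊤), Spec.map φ = π ≫ (toHull G).left := ⟨_, Spec.map_preimage _⟩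
  haveI : Flat (toHull G).left := flat_toHull R G
  haveI : Surjective (toHull G).left := surjective_toHull R G
  have h1 : Flat (π ≫ (toHull G).left) := inferInstance
  have h2 : Surjective (π ≫ (toHull G).left) := inferInstance
  rw [← hφ] at h1 h2
  have hff : φ.hom.FaithfullyFlat := RingHom.FaithfullyFlat.iff_flat_and_comap_surjective.mpr
    ⟨(HasRingHomProperty.Spec_iff (P := @Flat)).mp h1, h2.surj⟩
  haveI : IsLocallyNoetherian (Spec Γ(C, ⊤)) := LocallyOfFiniteType.isLocallyNoetherian (π ≫ G.hom)
  haveI : IsNoetherianRing Γ(C, ⊤) := (isNoetherian_Spec.mp ⟨⟩)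
  letI := φ.hom.toAlgebra
  haveI : Module.FaithfullyFlat Γ(G.left, ⊤) Γ(C, ⊤) := RingHom.faithfullyFlat_algebraMap_iff.mp hff
  haveI : IsNoetherianRing Γ(G.left, ⊤) :=
    AlgSpLib.isNoetherianRing_of_faithfullyFlat Γ(G.left, ⊤) Γ(C, ⊤)
  exact inferInstanceAs (IsLocallyNoetherian (Spec Γ(G.left, ⊤)))

theorem lfp_toHull : LocallyOfFinitePresentation (toHull G).left := by
  haveI := isLocallyNoetherian_hull G
  haveI : LocallyOfFiniteType ((toHull G).left ≫ (hullObj G).hom) := by rw [Over.w (toHull G)]; infer_instance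
  haveI : LocallyOfFiniteType (toHull G).left := locallyOfFiniteType_of_comp (toHull G).left (hullObj G).hom
  infer_instance

/-- The affine hull of a flat group of finite type is of finite type. -/
theorem lft_hull : LocallyOfFiniteType (hullObj G).hom := by
  haveI := lfp_toHull G
  haveI : Flat (toHull G).left := flat_toHull R G
  haveI : Surjective (toHull G).left := surjective_toHull R G
  haveI : CompactSpace G.left := (quasiCompact_iff_compactSpace G.hom).mp inferInstance
  haveI : QuasiCompact (toHull G).left := inferInstanceAs (QuasiCompact G.left.toSpecΓ)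
  haveI : QuasiSeparatedSpace G.left := quasiSeparatedSpace_of_quasiSeparated G.hom
  haveI : QuasiSeparated (toHull G).left := inferInstanceAs (QuasiSeparated G.left.toSpecΓ)
  have h := Over.w (toHull G)
  refine ((S4091.result (toHull G).left (hullObj G).hom).1 ⟨?_, ?_⟩).1
  · rw [h]; infer_instance
  · rw [h]; infer_instance

end FiniteType

/-- Two maps to a separated scheme that agree on a schematically dense subscheme are equal. -/
theorem ext_of_dominant {P W Y S : Scheme.{u}} (s : Y ⟶ S) [IsSeparated s] (j : P ⟶ W)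
    [IsSchemeTheoreticallyDominant j] (a b : W ⟶ Y) (h : a ≫ s = b ≫ s) (hj : j ≫ a = j ≫ b) : a = b := by
  haveI : IsClosedImmersion (pullback.diagonal s) := IsSeparated.isClosedImmersion_diagonal
  let t : W ⟶ pullback s s := pullback.lift a b h
  let c := pullback.fst t (pullback.diagonal s)
  haveI : IsClosedImmersion c := inferInstanceAs (IsClosedImmersion (pullback.fst t (pullback.diagonal s)))
  let j' : P ⟶ pullback t (pullback.diagonal s) := pullback.lift j (j ≫ a) (by
    apply pullback.hom_ext <;> simp [t, hj])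
  have e : j' ≫ c = j := pullback.lift_fst _ _ _
  have hle := Scheme.Hom.le_ker_comp j' c
  rw [e, Scheme.Hom.ker_eq_bot j, le_bot_iff] at hle
  haveI : IsIso c := IsClosedImmersion.isIso_iff_ker_eq_bot.mpr hle
  have hc : c ≫ t = pullback.snd t (pullback.diagonal s) ≫ pullback.diagonal s := pullback.condition
  rw [← cancel_epi c]
  have h1 := congrArg (· ≫ pullback.fst s s) hc
  have h2 := congrArg (· ≫ pullback.snd s s) hc
  simp only [t, Category.assoc, pullback.lift_fst, pullback.lift_snd, pullback.diagonal_fst,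
    pullback.diagonal_snd, Category.comp_id] at h1 h2
  exact h1.trans h2.symm

/-- The kernel of the hull morphism is étale when the generic fibre is affine. -/
theorem etale_kernel [LocallyOfFiniteType G.hom] (K : Type u) [Field K] [Algebra R K] [IsFractionRing R K]
    (hgen : IsAffine (pullback G.hom (gFib (R := R) K))) :
    Etale (pullback.snd (toHull G).left (η[G].left ≫ (toHull G).left) ≫
      (𝟙_ (Over (Spec (CommRingCat.of R)))).hom) := by
  let F := Over.pullback (gFib (R := R) K)
  have hKflat : (algebraMap R K).Flat := RingHom.flat_algebraMap_iff.mpr (IsLocalization.flat K (nonZeroDivisors R))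
  haveI : IsAffine (F.obj G).left := hgen
  haveI hr : IsIso (fibHull G K).left := by
    haveI : IsIso (fibHull G K).left.appTop :=
      (ConcreteCategory.isIso_iff_bijective _).mpr (fib_bijective_of_flat G K hKflat)
    have e2 : (fibHull G K).left = (F.obj G).left.isoSpec.hom ≫ Spec.map (fibHull G K).left.appTop ≫
        (F.obj (hullObj G)).left.isoSpec.inv := by
      rw [← Category.assoc, Scheme.isoSpec_hom_naturality, Category.assoc, Iso.hom_inv_id]
      exact (Category.comp_id _).symm
    rw [e2]
    infer_instance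
  haveI : IsSchemeTheoreticallyDominant (gFib (R := R) K) := by
    refine GrpSchLib.SchDomFlat.isSchemeTheoreticallyDominant_of_injective _ ?_
    intro x y hxy
    have h := Scheme.ΓSpecIso_naturality (CommRingCat.ofHom (algebraMap R K))
    have hx := ConcreteCategory.congr_hom h x
    have hy := ConcreteCategory.congr_hom h y
    simp only [ConcreteCategory.comp_apply] at hx hy
    refine (ConcreteCategory.bijective_of_isIso (Scheme.ΓSpecIso (CommRingCat.of R)).hom).1
      (IsFractionRing.injective R K ?_)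
    exact hx.symm.trans ((congrArg _ hxy).trans hy)
  obtain ⟨_, hhom⟩ := exists_grp_hull G
  haveI := hhom
  haveI : IsAffine (hullObj G).left := isAffine_Spec _
  haveI : IsSeparated (hullObj G).hom := inferInstance
  obtain ⟨N, _, i, _, hi, -, hker⟩ := GrpSchLib.exists_kernel (toHull G)
  haveI := hi
  have hsq : CategoryTheory.IsPullback i.left N.hom (toHull G).left η[hullObj G].left :=
    IsPullback.map (Over.forget _) hker
  haveI : Flat (toHull G).left := flat_toHull R G
  haveI := lfp_toHull G
  haveI : Flat N.hom := MorphismProperty.of_isPullback (P := @Flat) hsq ‹_›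
  haveI : LocallyOfFinitePresentation N.hom :=
    MorphismProperty.of_isPullback (P := @LocallyOfFinitePresentation) hsq ‹_›
  -- the unit section is open
  let e := η[N].left
  have he : e ≫ N.hom = 𝟙 _ := Over.w η[N]
  have hopen : IsOpenImmersion e := by
    -- around a point of the section
    have key : ∀ s, ∃ W : N.left.Opens, e s ∈ W ∧ W.ι ≫ N.hom ≫ e = W.ι := by
      intro s
      obtain ⟨V, hV, hsV, -⟩ := exists_isAffineOpen_mem_and_subset (U := ⊤) (Set.mem_univ (e s))
      haveI : IsAffine V.toScheme := hV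
      let W : N.left.Opens := V ⊓ (N.hom ≫ e) ⁻¹ᵁ V
      have hs : e s ∈ W := by
        refine ⟨hsV, ?_⟩
        show (N.hom ≫ e) (e s) ∈ V
        rw [← Scheme.Hom.comp_apply, reassoc_of% he]
        exact hsV
      refine ⟨W, hs, ?_⟩
      haveI : Flat (W.ι ≫ N.hom) := inferInstance
      let j := pullback.fst (W.ι ≫ N.hom) (gFib (R := R) K)
      haveI : IsSchemeTheoreticallyDominant j :=
        inferInstanceAs (IsSchemeTheoreticallyDominant (pullback.fst (W.ι ≫ N.hom) (gFib (R := R) K)))
      let P : Over (Spec (CommRingCat.of R)) := Over.mk (j ≫ W.ι ≫ N.hom)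
      let a₁ : P ⟶ N := Over.homMk (j ≫ W.ι) (Category.assoc _ _ _)
      let a₂ : P ⟶ N := Over.homMk (j ≫ W.ι ≫ N.hom ≫ e) (by
        show (j ≫ W.ι ≫ N.hom ≫ e) ≫ N.hom = j ≫ W.ι ≫ N.hom
        simp [he])
      have hP : a₁ = a₂ := by
        haveI : Mono i := by
          haveI : Mono ((Over.forget _).map i) := inferInstanceAs (Mono i.left)
          exact (Over.forget _).mono_of_mono_map ‹_›
        rw [← cancel_mono i]
        have h1 : ∀ a : P ⟶ N, (a ≫ i) ≫ toHull G = toUnit P ≫ η[hullObj G] := fun a => by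
          rw [Category.assoc, hker.w, ← Category.assoc, comp_toUnit]
        have hw : P.hom = pullback.snd (W.ι ≫ N.hom) (gFib (R := R) K) ≫ gFib (R := R) K := pullback.condition
        let l : ∀ b : P ⟶ G, P.left ⟶ (F.obj G).left := fun b =>
          pullback.lift b.left (pullback.snd (W.ι ≫ N.hom) (gFib (R := R) K)) ((Over.w b).trans hw)
        have hl : ∀ b, l b ≫ pullback.fst G.hom (gFib (R := R) K) = b.left := fun b => pullback.lift_fst _ _ _
        have hinj : l (a₁ ≫ i) = l (a₂ ≫ i) := by
          rw [← cancel_mono (fibHull G K).left]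
          have hfst : ∀ b : P ⟶ G, (l b ≫ (fibHull G K).left) ≫ pullback.fst _ _ = (b ≫ toHull G).left := fun b => by
            rw [Category.assoc, fibHull_fst, ← Category.assoc, hl]
            rfl
          have hsnd : ∀ b : P ⟶ G, (l b ≫ (fibHull G K).left) ≫ pullback.snd _ _ =
              pullback.snd (W.ι ≫ N.hom) (gFib (R := R) K) := fun b => by
            rw [Category.assoc]
            erw [Over.w (fibHull G K)]
            exact pullback.lift_snd _ _ _
          refine pullback.hom_ext ?_ ?_
          · exact (hfst _).trans ((congrArg CommaMorphism.left ((h1 a₁).trans (h1 a₂).symm)).trans (hfst _).symm)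
          · exact (hsnd _).trans (hsnd _).symm
        refine Over.OverMorphism.ext ?_
        rw [← hl (a₁ ≫ i), ← hl (a₂ ≫ i), hinj]
      -- compare inside the affine neighbourhood
      let b₁ : W.toScheme ⟶ V.toScheme := N.left.homOfLE inf_le_left
      let b₂ : W.toScheme ⟶ V.toScheme := IsOpenImmersion.lift V.ι (W.ι ≫ N.hom ≫ e) (by
        rintro _ ⟨w, rfl⟩
        rw [Scheme.Opens.range_ι]
        exact w.2.2)
      have hb₁ : b₁ ≫ V.ι = W.ι := Scheme.homOfLE_ι _ _
      have hb₂ : b₂ ≫ V.ι = W.ι ≫ N.hom ≫ e := IsOpenImmersion.lift_fac _ _ _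
      haveI : IsSeparated (V.ι ≫ N.hom) := inferInstance
      have hb : b₁ = b₂ := by
        refine ext_of_dominant (V.ι ≫ N.hom) j b₁ b₂ ?_ ?_
        · rw [reassoc_of% hb₁, reassoc_of% hb₂, he]
          exact congrArg (W.ι ≫ ·) (Category.comp_id N.hom).symm
        · rw [← cancel_mono V.ι, Category.assoc, Category.assoc, hb₁, hb₂]
          exact congrArg CommaMorphism.left hP
      rw [← hb₂, ← hb, hb₁]
    choose W hW hWe using key
    let O : N.left.Opens := ⨆ s, W s
    have hO : O.ι ≫ N.hom ≫ e = O.ι := by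
      refine (Scheme.Opens.iSupOpenCover W).hom_ext _ _ fun s => ?_
      show N.left.homOfLE (le_iSup W s) ≫ O.ι ≫ N.hom ≫ e = N.left.homOfLE (le_iSup W s) ≫ O.ι
      rw [Scheme.homOfLE_ι_assoc, Scheme.homOfLE_ι, hWe s]
    let e' := IsOpenImmersion.lift O.ι e (by
      rintro _ ⟨s, rfl⟩
      rw [Scheme.Opens.range_ι]
      exact TopologicalSpace.Opens.mem_iSup.mpr ⟨s, hW s⟩)
    have he' : e' ≫ O.ι = e := IsOpenImmersion.lift_fac _ _ _
    haveI : IsIso e' := by
      refine ⟨O.ι ≫ N.hom, ?_, ?_⟩
      · rw [reassoc_of% he', he]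
      · rw [← cancel_mono O.ι, Category.assoc, Category.assoc, he', hO, Category.id_comp]
    rw [← he']
    infer_instance
  haveI : IsOpenImmersion (pullback.diagonal N.hom) :=
    (GrpSchLib.diagonal_iff_unit (G := N) @IsOpenImmersion).mpr hopen
  haveI : Etale N.hom := Etale.of_formallyUnramified_of_flat N.hom
  have hη : η[hullObj G].left = η[G].left ≫ (toHull G).left := by
    rw [← IsMonHom.one_hom (toHull G)]; rfl
  rw [hη] at hsq
  have e3 : pullback.snd (toHull G).left (η[G].left ≫ (toHull G).left) ≫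
      (𝟙_ (Over (Spec (CommRingCat.of R)))).hom = hsq.isoPullback.inv ≫ N.hom := by
    rw [hsq.isoPullback_inv_snd]
    exact Category.comp_id _
  rw [e3]
  infer_instance

end Groth.Agent.GrpHull
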