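import Groth.Agent.GrpHull.AlgTarget
import Groth.Agent.GrpSchLib.Kunneth
import Groth.Agent.GrpSchLib.LineGroups
import Groth.Agent.GrpSchLib.SchDomFlat
import Groth.Agent.GrpSchLib.ProPoints
import Mathlib.RingTheory.Flat.EquationalCriterion
import Mathlib.RingTheory.Flat.FaithfullyFlat.Basic

/-!
# Homomorphisms of group schemes over a field to affine group schemes

A homomorphism from a quasi-compact group scheme over a field to an affine one which is injective on functions is
faithfully flat, with no finiteness hypothesis.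
-/

universe u

open CategoryTheory Limits AlgebraicGeometry MonoidalCategory CartesianMonoidalCategory MonObj GrpObj
open scoped TensorProduct
open Groth.Agent.GrpSchLib Groth.Agent.GrpSchLib.Kunneth

set_option autoImplicit false
set_option linter.all false
set_option backward.isDefEq.respectTransparency false
set_option backward.isDefEq.respectTransparency.types false

namespace Groth.Agent.GrpHull

variable {k : Type u} [Field k]

/-- A morphism factors through one that is injective on functions as soon as its functions do. -/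
theorem exists_factor_of_range {T T' X : Over (Spec (CommRingCat.of k))} [IsAffine X.left] (u : T ⟶ T')
    (hu : Function.Injective (ev u)) (g : T ⟶ X) (h : ∀ x, ev g x ∈ Set.range (ev u)) :
    ∃ g' : T' ⟶ X, u ≫ g' = g := by
  let e := AlgEquiv.ofInjective (ev u) hu
  let ψ : Fn X →ₐ[k] Fn T' :=
    e.symm.toAlgHom.comp ((ev g).codRestrict (ev u).range fun x => h x)
  obtain ⟨g', hg'⟩ := LineGroups.exists_hom_ev ψ
  refine ⟨g', LineGroups.ext_ev (AlgHom.ext fun x => ?_)⟩
  rw [← ev_ev, hg']
  have h1 := congrArg Subtype.val (e.apply_symm_apply ⟨ev g x, h x⟩)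
  exact h1

theorem cancel_ev {T T' X : Over (Spec (CommRingCat.of k))} [IsAffine X.left] {u : T ⟶ T'}
    (hu : Function.Injective (ev u)) {g g' : T' ⟶ X} (h : u ≫ g = u ≫ g') : g = g' := by
  refine LineGroups.ext_ev (AlgHom.ext fun x => hu ?_)
  rw [ev_ev, ev_ev, h]

section Tensor

variable {X X' Y Y' : Over (Spec (CommRingCat.of k))} [QuasiCompact X.hom] [IsSeparated X.hom] [QuasiCompact Y.hom]
  [IsSeparated Y.hom] [QuasiCompact X'.hom] [IsSeparated X'.hom] [QuasiCompact Y'.hom] [IsSeparated Y'.hom]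
  (f : X ⟶ X') (g : Y ⟶ Y')

theorem ev_tensor (z : Fn X' ⊗[k] Fn Y') :
    ev (f ⊗ₘ g) (toProd X' Y' z) = toProd X Y (Algebra.TensorProduct.map (ev f) (ev g) z) := by
  induction z using TensorProduct.induction_on with
  | zero => simp
  | tmul a b =>
    simp only [toProd, Algebra.TensorProduct.lift_tmul, Algebra.TensorProduct.map_tmul, map_mul, ev_ev,
      tensorHom_fst, tensorHom_snd]
  | add a b ha hb => simp only [map_add, ha, hb]

theorem ev_tensor_injective (hf : Function.Injective (ev f)) (hg : Function.Injective (ev g)) :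
    Function.Injective (ev (f ⊗ₘ g)) := by
  intro a b hab
  obtain ⟨a, rfl⟩ := (toProd_bijective X' Y').2 a
  obtain ⟨b, rfl⟩ := (toProd_bijective X' Y').2 b
  rw [ev_tensor, ev_tensor] at hab
  refine congrArg (toProd X' Y') (?_ : a = b)
  exact TensorProduct.map_injective_of_flat_flat (ev f).toLinearMap (ev g).toLinearMap hf hg
    ((toProd_bijective X Y).1 hab)

end Tensor

instance quasiCompact_tensor (X Y : Over (Spec (CommRingCat.of k))) [QuasiCompact X.hom] [QuasiCompact Y.hom] :
    QuasiCompact (X ⊗ Y).hom :=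
  inferInstanceAs (QuasiCompact (pullback.fst X.hom Y.hom ≫ X.hom))

instance isSeparated_tensor (X Y : Over (Spec (CommRingCat.of k))) [IsSeparated X.hom] [IsSeparated Y.hom] :
    IsSeparated (X ⊗ Y).hom :=
  inferInstanceAs (IsSeparated (pullback.fst X.hom Y.hom ≫ X.hom))

instance isAffine_tensor (X Y : Over (Spec (CommRingCat.of k))) [IsAffine X.left] [IsAffine Y.left] :
    IsAffine (X ⊗ Y).left :=
  inferInstanceAs (IsAffine (pullback X.hom Y.hom))

section Induced

variable {G X : Over (Spec (CommRingCat.of k))} [GrpObj G] [IsAffine X.left] [QuasiCompact G.hom]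

/-- An affine scheme receiving a group injectively on functions inherits the group structure. -/
theorem exists_grp (r : G ⟶ X) (hr : Function.Injective (ev r))
    (hμ : ∀ x, ev (μ[G] ≫ r) x ∈ Set.range (ev (r ⊗ₘ r))) (hι : ∀ x, ev (ι[G] ≫ r) x ∈ Set.range (ev r)) :
    ∃ _ : GrpObj X, IsMonHom r := by
  haveI := isSeparated_of_grp G
  haveI : IsSeparated X.hom := inferInstance
  haveI : QuasiCompact X.hom := inferInstance
  have hrr := ev_tensor_injective r r hr hr
  obtain ⟨m, hm⟩ := exists_factor_of_range (r ⊗ₘ r) hrr (μ[G] ≫ r) hμ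
  obtain ⟨i, hi⟩ := exists_factor_of_range r hr (ι[G] ≫ r) hι
  have hmul : ∀ {T : Over (Spec (CommRingCat.of k))} (a b : T ⟶ G),
      lift (a ≫ r) (b ≫ r) ≫ m = (a * b) ≫ r := by
    intro T a b
    rw [← lift_map, Category.assoc, hm, ← Category.assoc, ← Hom.mul_def]
  let M : MonObj X :=
    { one := η[G] ≫ r
      mul := m
      one_mul := by
        rw [← cancel_epi (λ_ X).inv]
        refine cancel_ev hr ?_
        simp only [Iso.inv_hom_id, Category.comp_id]
        have e : r ≫ (λ_ X).inv ≫ (η[G] ≫ r) ▷ X = lift ((toUnit G ≫ η[G]) ≫ r) ((𝟙 G) ≫ r) := by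
          apply CartesianMonoidalCategory.hom_ext <;> simp
        rw [← Category.assoc (λ_ X).inv, ← Category.assoc, e, hmul, show toUnit G ≫ η[G] = 1 from rfl,
          _root_.one_mul, Category.id_comp]
      mul_one := by
        rw [← cancel_epi (ρ_ X).inv]
        refine cancel_ev hr ?_
        simp only [Iso.inv_hom_id, Category.comp_id]
        have e : r ≫ (ρ_ X).inv ≫ X ◁ (η[G] ≫ r) = lift ((𝟙 G) ≫ r) ((toUnit G ≫ η[G]) ≫ r) := by
          apply CartesianMonoidalCategory.hom_ext <;> simp
        rw [← Category.assoc (ρ_ X).inv, ← Category.assoc, e, hmul, show toUnit G ≫ η[G] = 1 from rfl,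
          _root_.mul_one, Category.id_comp]
      mul_assoc := by
        refine cancel_ev (ev_tensor_injective (r ⊗ₘ r) r hrr hr) ?_
        let p₁ : (G ⊗ G) ⊗ G ⟶ G := fst (G ⊗ G) G ≫ fst G G
        let p₂ : (G ⊗ G) ⊗ G ⟶ G := fst (G ⊗ G) G ≫ snd G G
        let p₃ : (G ⊗ G) ⊗ G ⟶ G := snd (G ⊗ G) G
        have e₁ : ((r ⊗ₘ r) ⊗ₘ r) ≫ m ▷ X = lift ((p₁ * p₂) ≫ r) (p₃ ≫ r) := by
          apply CartesianMonoidalCategory.hom_ext
          · simp only [Category.assoc, whiskerRight_fst, lift_fst, tensorHom_fst_assoc, hm]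
            rw [← Category.assoc, Hom.mul_def]
            simp [p₁, p₂, ← comp_lift]
          · simp [p₃]
        have e₂ : ((r ⊗ₘ r) ⊗ₘ r) ≫ (α_ X X X).hom ≫ X ◁ m = lift (p₁ ≫ r) ((p₂ * p₃) ≫ r) := by
          apply CartesianMonoidalCategory.hom_ext
          · simp [p₁]
          · simp only [Category.assoc, whiskerLeft_snd, lift_snd]
            rw [← hmul, ← Category.assoc, ← Category.assoc]
            congr 1
            apply CartesianMonoidalCategory.hom_ext <;> simp [p₂, p₃]
        rw [← Category.assoc, e₁, hmul, ← Category.assoc (α_ X X X).hom, ← Category.assoc, e₂, hmul,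
          _root_.mul_assoc] }
  have hμX : μ[X] = m := rfl
  have hηX : η[X] = η[G] ≫ r := rfl
  let Gr : GrpObj X :=
    { inv := i
      left_inv := by
        refine cancel_ev hr ?_
        show r ≫ lift i (𝟙 X) ≫ m = r ≫ toUnit X ≫ η[G] ≫ r
        rw [← Category.assoc, comp_lift, Category.comp_id, hi]
        have := hmul ι[G] (𝟙 G)
        rw [Category.id_comp] at this
        rw [this, ← Category.assoc r, comp_toUnit, ← Category.assoc, Hom.mul_def, GrpObj.left_inv]
      right_inv := by
        refine cancel_ev hr ?_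
        show r ≫ lift (𝟙 X) i ≫ m = r ≫ toUnit X ≫ η[G] ≫ r
        rw [← Category.assoc, comp_lift, Category.comp_id, hi]
        have := hmul (𝟙 G) ι[G]
        rw [Category.id_comp] at this
        rw [this, ← Category.assoc r, comp_toUnit, ← Category.assoc, Hom.mul_def, GrpObj.right_inv] }
  exact ⟨Gr, ⟨rfl, by
    show μ[G] ≫ r = (r ⊗ₘ r) ≫ m
    exact hm.symm⟩⟩

end Induced

variable {G : Over (Spec (CommRingCat.of k))} [GrpObj G] [QuasiCompact G.hom]

/-- A homomorphism to an affine group which is injective on functions is faithfully flat. -/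
theorem flat_surjective_of_injective {H : Over (Spec (CommRingCat.of k))} [GrpObj H] [IsAffine H.left] (f : G ⟶ H)
    [IsMonHom f] (hf : Function.Injective (ev f)) : Flat f.left ∧ Surjective f.left := by
  classical
  obtain ⟨A, _, _, ⟨eA⟩⟩ := AffineHopf.exists_hopf H
  let a : AffineHopf.sp k A ≅ H := (Grp.forget _).mapIso eA
  haveI : IsMonHom a.hom := eA.hom.hom.isMonHom_hom
  haveI : IsMonHom a.inv := eA.inv.hom.isMonHom_hom
  haveI : IsIso a.hom.left := ((Over.forget _).mapIso a).isIso_hom
  haveI : IsIso a.inv.left := ((Over.forget _).mapIso a).isIso_inv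
  let v : G ⟶ AffineHopf.sp k A := f ≫ a.inv
  suffices hv : Flat v.left ∧ Surjective v.left by
    have e : f.left = v.left ≫ a.hom.left := by
      show f.left = (f.left ≫ a.inv.left) ≫ a.hom.left
      rw [Category.assoc, ← Over.comp_left, a.inv_hom_id]
      exact (Category.comp_id _).symm
    rw [e]
    obtain ⟨h1, h2⟩ := hv
    exact ⟨MorphismProperty.comp_mem @Flat _ _ h1 inferInstance,
      MorphismProperty.comp_mem @Surjective _ _ h2 inferInstance⟩
  have hv : Function.Injective (ev v) := by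
    intro x y hxy
    have h1 := hf ((ev_ev f a.inv x).trans (hxy.trans (ev_ev f a.inv y).symm))
    have h2 := congrArg (ev a.hom) h1
    rwa [ev_ev, ev_ev, a.hom_inv_id, ev_id, ev_id] at h2
  -- an affine flat cover of the source
  haveI : CompactSpace G.left := (quasiCompact_iff_compactSpace G.hom).mp inferInstance
  let 𝒰 := G.left.affineCover.finiteSubcover
  let C := ∐ 𝒰.X
  haveI : ∀ i, IsAffine (𝒰.X i) := fun i => inferInstanceAs (IsAffine (G.left.affineCover.X _))
  haveI : IsAffine C := inferInstance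
  let π : Spec Γ(C, ⊤) ⟶ G.left := C.isoSpec.inv ≫ Sigma.desc 𝒰.f
  haveI := GrpSchLib.ImageFlat.surjective_sigmaDesc 𝒰
  haveI := GrpSchLib.ImageFlat.flat_sigmaDesc 𝒰
  haveI : Flat π := inferInstance
  haveI : Surjective π := inferInstance
  obtain ⟨φ, hφ⟩ : ∃ φ : CommRingCat.of A ⟶ Γ(C, ⊤), Spec.map φ = π ≫ v.left := ⟨_, Spec.map_preimage _⟩
  -- the restriction to each Hopf subalgebra of finite type is faithfully flat
  have key : ∀ s : Finset A, ∃ B : Subalgebra k A, (∀ x ∈ s, x ∈ B) ∧
      (φ.hom.comp B.val.toRingHom).FaithfullyFlat := by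
    intro s
    obtain ⟨B, hsB, hfg, hB⟩ := ProPoints.exists_fg_hopf_of_finset (k := k) s
    letI := SubHopf.hopf B hB
    obtain ⟨g, hg, hgl⟩ : ∃ g : G ⟶ AffineHopf.sp k B, IsMonHom g ∧
        g.left = v.left ≫ Spec.map (CommRingCat.ofHom B.val.toRingHom) := by
      obtain ⟨ψ, hψ⟩ : ∃ ψ : (B : Type u) →ₐc[k] A, (ψ : (B : Type u) →ₐ[k] A) = B.val :=
        ⟨BialgHom.ofAlgHom B.val rfl (AlgHom.ext fun b => SubHopf.map_comulRes B hB b), rfl⟩
      refine ⟨v ≫ AffineHopf.spMap (ψ : (B : Type u) →ₐ[k] A), inferInstance, ?_⟩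
      rw [hψ]
      rfl
    haveI := hg
    haveI : Algebra.FiniteType k B := B.fg_iff_finiteType.mp hfg
    haveI : LocallyOfFiniteType (AffineHopf.sp k B).hom := by
      refine (HasRingHomProperty.Spec_iff (P := @LocallyOfFiniteType)).mpr ?_
      exact RingHom.finiteType_algebraMap.mpr inferInstance
    haveI : IsAffine (AffineHopf.sp k B).left := isAffine_Spec _
    haveI := isSeparated_of_grp (AffineHopf.sp k B)
    haveI : QuasiCompact (g.left ≫ (AffineHopf.sp k B).hom) := by rw [Over.w g]; infer_instance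
    haveI : QuasiCompact g.left := QuasiCompact.of_comp g.left (AffineHopf.sp k B).hom
    have hginj : Function.Injective g.left.appTop := by
      rw [hgl, Scheme.Hom.comp_appTop]
      refine (Function.Injective.comp hv ?_ :)
      intro x y hxy
      refine (ConcreteCategory.bijective_of_isIso (Scheme.ΓSpecIso (CommRingCat.of B)).hom).1
        (Subtype.ext ?_)
      have h2 := Scheme.ΓSpecIso_naturality (CommRingCat.ofHom B.val.toRingHom)
      have hx := ConcreteCategory.congr_hom h2 x
      have hy := ConcreteCategory.congr_hom h2 y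
      simp only [ConcreteCategory.comp_apply] at hx hy
      exact hx.symm.trans ((congrArg _ hxy).trans hy)
    haveI := SchDomFlat.isSchemeTheoreticallyDominant_of_injective g.left hginj
    obtain ⟨h1, h2⟩ := flat_surjective_of_dominant g
    refine ⟨B, hsB, ?_⟩
    have e : Spec.map (CommRingCat.ofHom B.val.toRingHom ≫ φ) = π ≫ g.left := by
      rw [Spec.map_comp, hφ, hgl, Category.assoc]
    have hff : Flat (Spec.map (CommRingCat.ofHom B.val.toRingHom ≫ φ)) ∧
        Surjective (Spec.map (CommRingCat.ofHom B.val.toRingHom ≫ φ)) := by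
      rw [e]
      exact ⟨MorphismProperty.comp_mem @Flat _ _ inferInstance h1,
        MorphismProperty.comp_mem @Surjective _ _ inferInstance h2⟩
    exact RingHom.FaithfullyFlat.iff_flat_and_comap_surjective.mpr
      ⟨(HasRingHomProperty.Spec_iff (P := @Flat)).mp hff.1, hff.2.surj⟩
  -- pass to the limit
  letI : Algebra A Γ(C, ⊤) := φ.hom.toAlgebra
  haveI : Module.Flat A Γ(C, ⊤) := by
    refine Module.Flat.of_forall_isTrivialRelation fun {l r x} hrel => ?_
    obtain ⟨B, hB, hBff⟩ := key (Finset.univ.image r)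
    letI : Algebra B Γ(C, ⊤) := (φ.hom.comp B.val.toRingHom).toAlgebra
    haveI : Module.FaithfullyFlat B Γ(C, ⊤) := RingHom.faithfullyFlat_algebraMap_iff.mp hBff
    let r' : Fin l → B := fun j => ⟨r j, hB _ (Finset.mem_image_of_mem r (Finset.mem_univ j))⟩
    have hrel' : ∑ j, r' j • x j = 0 := hrel
    obtain ⟨κ, a, y, hxy, ha⟩ := Module.Flat.isTrivialRelation_of_sum_smul_eq_zero hrel'
    refine ⟨κ, fun i j => (a i j : A), y, fun i => ?_, fun j => ?_⟩
    · exact hxy i
    · have := congrArg Subtype.val (ha j)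
      simpa [r'] using this
  haveI : Module.FaithfullyFlat A Γ(C, ⊤) := by
    refine ⟨fun {𝔪} hm htop => ?_⟩
    have h1 : (1 : Γ(C, ⊤)) ∈ 𝔪 • (⊤ : Submodule A Γ(C, ⊤)) := by rw [htop]; trivial
    obtain ⟨s, hs⟩ : ∃ s : Finset A, ↑s ⊆ (𝔪 : Set A) ∧
        (1 : Γ(C, ⊤)) ∈ Ideal.span (φ.hom '' (s : Set A)) := by
      rw [Ideal.smul_top_eq_map, Submodule.restrictScalars_mem, Ideal.map] at h1
      obtain ⟨T, hT, hT1⟩ := Submodule.mem_span_finite_of_mem_span h1
      obtain ⟨s, hs, rfl⟩ := Finset.subset_set_image_iff.mp hT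
      refine ⟨s, hs, ?_⟩
      rw [Finset.coe_image] at hT1
      exact hT1
    obtain ⟨B, hB, hBff⟩ := key s
    letI : Algebra B Γ(C, ⊤) := (φ.hom.comp B.val.toRingHom).toAlgebra
    haveI : Module.FaithfullyFlat B Γ(C, ⊤) := RingHom.faithfullyFlat_algebraMap_iff.mp hBff
    have hp : (𝔪.comap B.val.toRingHom).map (algebraMap B Γ(C, ⊤)) = ⊤ := by
      refine (Ideal.eq_top_iff_one _).mpr (Ideal.span_le.mpr ?_ hs.2)
      rintro _ ⟨x, hx, rfl⟩
      refine Ideal.mem_map_of_mem (algebraMap B Γ(C, ⊤)) (x := ⟨x, hB x hx⟩) ?_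
      exact Ideal.mem_comap.mpr (hs.1 hx)
    have hc := Ideal.comap_map_eq_self_of_faithfullyFlat (B := Γ(C, ⊤)) (𝔪.comap B.val.toRingHom)
    rw [hp, Ideal.comap_top] at hc
    exact hm.ne_top ((Ideal.comap_eq_top_iff).mp hc.symm)
  have hff : φ.hom.FaithfullyFlat := RingHom.faithfullyFlat_algebraMap_iff.mpr ‹Module.FaithfullyFlat A Γ(C, ⊤)›
  obtain ⟨hfl, hs⟩ := RingHom.FaithfullyFlat.iff_flat_and_comap_surjective.mp hff
  haveI : Flat (π ≫ v.left) := hφ ▸ (HasRingHomProperty.Spec_iff (P := @Flat)).mpr hfl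
  haveI : Surjective (π ≫ v.left) := hφ ▸ ⟨hs⟩
  exact ⟨GrpSchLib.RankOne.flat_of_comp π v.left, Surjective.of_comp π v.left⟩

/-- A subalgebra of functions stable under multiplication and inversion defines a faithfully flat morphism. -/
theorem flat_surjective_of_subalgebra {X : Over (Spec (CommRingCat.of k))} [IsAffine X.left] (r : G ⟶ X)
    (hr : Function.Injective (ev r))
    (hμ : ∀ x, ev (μ[G] ≫ r) x ∈ Set.range (ev (r ⊗ₘ r))) (hι : ∀ x, ev (ι[G] ≫ r) x ∈ Set.range (ev r)) :
    Flat r.left ∧ Surjective r.left := by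
  obtain ⟨_, hrh⟩ := exists_grp r hr hμ hι
  exact flat_surjective_of_injective r hr

/-- The morphism of a quasi-compact group to its affine hull is faithfully flat. -/
theorem toSpecΓ_flat_surjective (G : Over (Spec (CommRingCat.of k))) [GrpObj G] [QuasiCompact G.hom] :
    Flat G.left.toSpecΓ ∧ Surjective G.left.toSpecΓ := by
  haveI := isSeparated_of_grp G
  let X : Over (Spec (CommRingCat.of k)) := AffineHopf.sp k (Fn G)
  let r : G ⟶ X := Over.homMk G.left.toSpecΓ (by
    show G.left.toSpecΓ ≫ Spec.map (CommRingCat.ofHom (str G)) = G.hom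
    rw [str, CommRingCat.ofHom_hom, Spec.map_comp, ← Category.assoc, ← Scheme.toSpecΓ_naturality, Category.assoc,
      toSpecΓ_SpecMap_ΓSpecIso_inv]
    exact Category.comp_id _)
  haveI : IsAffine X.left := isAffine_Spec _
  haveI : IsSeparated X.hom := inferInstance
  have hr : Function.Bijective (ev r) := by
    haveI : IsIso G.left.toSpecΓ.appTop := by rw [Scheme.toSpecΓ_appTop]; infer_instance
    exact ConcreteCategory.bijective_of_isIso G.left.toSpecΓ.appTop
  refine flat_surjective_of_subalgebra r hr.1 (fun x => ?_) (fun x => ⟨_, (hr.2 _).choose_spec⟩)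
  obtain ⟨z, hz⟩ := (toProd_bijective G G).2 (ev (μ[G] ≫ r) x)
  have hs : Function.Surjective (Algebra.TensorProduct.map (ev r) (ev r)) :=
    TensorProduct.map_surjective hr.2 hr.2
  obtain ⟨w, rfl⟩ := hs z
  exact ⟨toProd X X w, (ev_tensor r r w).trans hz⟩

end Groth.Agent.GrpHull
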